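import Groth.Agent.KRRLam.Special
import Groth.Agent.S3290

/-!
# The γ-filtration of an elementary extension
-/

open Finset

noncomputable section

namespace Groth.Agent.KRRLam

open LambdaRing LamR

universe v

variable {K : Type v} [CommRing K] [LambdaOps K] (P : PosStructure K) (e : K) (r : ℕ)

/-- `ℓ - 1` -/
def xx : AdjoinRoot (KRR.extPoly P e) := AdjoinRoot.root (KRR.extPoly P e) - 1

/-- `Σ_{i ≤ r} F^{k-i} K · (ℓ-1)^i` -/
def JJ (k : ℕ) : AddSubgroup (AdjoinRoot (KRR.extPoly P e)) :=
  ⨆ i ∈ Finset.range (r + 1), AddSubgroup.map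
        ((AddMonoidHom.mulRight ((AdjoinRoot.root (KRR.extPoly P e) - 1) ^ i)).comp
          (AdjoinRoot.of (KRR.extPoly P e)).toAddMonoidHom)
        (LambdaRing.gammaFiltration P (k - i))

variable {P e r}

lemma JJ_le {k : ℕ} {H : AddSubgroup (AdjoinRoot (KRR.extPoly P e))}
    (h : ∀ i, i ≤ r → ∀ a ∈ gammaFiltration P (k - i), AdjoinRoot.of (KRR.extPoly P e) a * xx P e ^ i ∈ H) :
    JJ P e r k ≤ H := by
  rw [JJ]
  refine iSup₂_le fun i hi => ?_
  rintro _ ⟨a, ha, rfl⟩
  exact h i (by rw [mem_range] at hi; omega) a ha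

lemma mem_JJ {k i : ℕ} (hi : i ≤ r) {a : K} (ha : a ∈ gammaFiltration P (k - i)) :
    AdjoinRoot.of (KRR.extPoly P e) a * xx P e ^ i ∈ JJ P e r k := by
  rw [JJ]
  exact AddSubgroup.mem_iSup_of_mem i (AddSubgroup.mem_iSup_of_mem (by rw [mem_range]; omega) ⟨a, ha, rfl⟩)

lemma JJ_anti {m k : ℕ} (h : m ≤ k) : JJ P e r k ≤ JJ P e r m :=
  JJ_le fun _ hi _ ha => mem_JJ hi (gammaFiltration_anti P (by omega) ha)

section Rel

variable (he : e ∈ P.pos) (hr : P.aug e = r + 1)
include he hr

lemma xx_pow_eq : ∃ b : ℕ → K, (∀ j, b j ∈ gammaFiltration P (j + 1)) ∧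
    xx P e ^ (r + 1) = ∑ j ∈ range (r + 1), AdjoinRoot.of (KRR.extPoly P e) (b j) * xx P e ^ (r - j) := by
  have hn : (P.aug e).toNat = r + 1 := by omega
  have haug : P.aug (e - (((r + 1 : ℕ)) : K)) = 0 := by rw [map_sub, map_natCast, hr]; simp
  have h := congrArg (Polynomial.eval₂ (AdjoinRoot.of (KRR.extPoly P e)) (-xx P e)) (S3290.result K P e he)
  rw [hn] at h
  simp only [Polynomial.eval₂_finsetSum, Polynomial.eval₂_mul, Polynomial.eval₂_C, Polynomial.eval₂_pow,
    Polynomial.eval₂_X, Polynomial.eval₂_sub, Polynomial.eval₂_one] at h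
  have h0 : ∑ i ∈ range (r + 1 + 1), AdjoinRoot.of (KRR.extPoly P e) (LambdaOps.lam i e) * (-xx P e - 1) ^ (r + 1 - i) = 0 := by
    have hrel := AdjoinRoot.eval₂_root (KRR.extPoly P e)
    conv_lhs at hrel => arg 3; rw [KRR.extPoly]
    simp only [hn, Polynomial.eval₂_finsetSum, Polynomial.eval₂_mul, Polynomial.eval₂_C, Polynomial.eval₂_pow,
      Polynomial.eval₂_X] at hrel
    refine Eq.trans ?_ ((congrArg (fun t => (-1 : AdjoinRoot (KRR.extPoly P e)) ^ (r + 1) * t) hrel).trans (mul_zero _))
    rw [mul_sum]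
    refine sum_congr rfl fun i hi => ?_
    rw [mem_range] at hi
    obtain ⟨j, hj⟩ : ∃ j, r + 1 = i + j := ⟨r + 1 - i, by omega⟩
    rw [hj, Nat.add_sub_cancel_left, xx, show -(AdjoinRoot.root (KRR.extPoly P e) - 1) - 1 = -AdjoinRoot.root (KRR.extPoly P e) by ring,
      neg_pow, map_mul, map_pow, map_neg, map_one, pow_add]
    have hh : (-1 : AdjoinRoot (KRR.extPoly P e)) ^ i * (-1) ^ i = 1 := by rw [← pow_add, Even.neg_one_pow ⟨i, rfl⟩]
    linear_combination -((-1 : AdjoinRoot (KRR.extPoly P e)) ^ j * AdjoinRoot.of _ (LambdaOps.lam i e) * AdjoinRoot.root _ ^ j) * hh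
  rw [h0, sum_range_succ', Nat.sub_zero, gamma_zero, map_one, one_mul] at h
  refine ⟨fun j => (-1 : K) ^ j * gamma (j + 1) (e - ((r + 1 : ℕ) : K)), fun j => ?_, ?_⟩
  · exact smul_mem_gammaFiltration P _ (gamma_mem P haug)
  · have h' := congrArg (fun t => (-1 : AdjoinRoot (KRR.extPoly P e)) ^ (r + 1) * t) h
    simp only [mul_zero, mul_add, mul_sum, ← mul_pow, neg_mul_neg, one_mul] at h'
    rw [eq_neg_of_add_eq_zero_right h', ← sum_neg_distrib]
    refine sum_congr rfl fun j hj => ?_
    rw [mem_range] at hj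
    obtain ⟨d, rfl⟩ : ∃ d, r = j + d := ⟨r - j, by omega⟩
    rw [show j + d + 1 - (j + 1) = d by omega, Nat.add_sub_cancel_left, neg_pow (xx P e), map_mul, map_pow, map_neg, map_one,
      pow_succ, pow_add]
    have hh : (-1 : AdjoinRoot (KRR.extPoly P e)) ^ d * (-1) ^ d = 1 := by rw [← pow_add, Even.neg_one_pow ⟨d, rfl⟩]
    linear_combination ((-1 : AdjoinRoot (KRR.extPoly P e)) ^ j * AdjoinRoot.of _ (gamma (j + 1) (e - (((j + d + 1 : ℕ)) : K))) * xx P e ^ d) * hh

lemma mem_JJ' {k : ℕ} : ∀ {i : ℕ} {a : K}, a ∈ gammaFiltration P (k - i) →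
    AdjoinRoot.of (KRR.extPoly P e) a * xx P e ^ i ∈ JJ P e r k := by
  obtain ⟨b, hb, hxx⟩ := xx_pow_eq he hr
  intro i
  induction i using Nat.strong_induction_on with
  | _ i ih =>
    intro a ha
    rcases Nat.lt_or_ge i (r + 1) with h | h
    · exact mem_JJ (by omega) ha
    obtain ⟨d, rfl⟩ : ∃ d, i = r + 1 + d := ⟨i - (r + 1), by omega⟩
    rw [pow_add, hxx, sum_mul, mul_sum]
    refine sum_mem fun j hj => ?_
    rw [mem_range] at hj
    rw [show ∀ u w z : AdjoinRoot (KRR.extPoly P e), AdjoinRoot.of (KRR.extPoly P e) a * (u * w * z) =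
      AdjoinRoot.of (KRR.extPoly P e) a * u * (w * z) from fun u w z => by ring, ← map_mul, ← pow_add]
    exact ih _ (by omega) (gammaFiltration_anti P (by omega) (mul_mem_gammaFiltration P ha (hb j)))

lemma mul_mem_JJ {m k : ℕ} {u w : AdjoinRoot (KRR.extPoly P e)} (hu : u ∈ JJ P e r m) (hw : w ∈ JJ P e r k) :
    u * w ∈ JJ P e r (m + k) := by
  refine JJ_le (H := (JJ P e r (m + k)).comap (AddMonoidHom.mulRight w)) (fun i _ a ha => ?_) hu
  refine JJ_le (H := (JJ P e r (m + k)).comap (AddMonoidHom.mulLeft _)) (fun j _ b hb => ?_) hw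
  show AdjoinRoot.of (KRR.extPoly P e) a * xx P e ^ i * (AdjoinRoot.of (KRR.extPoly P e) b * xx P e ^ j) ∈ JJ P e r (m + k)
  rw [mul_mul_mul_comm, ← map_mul, ← pow_add]
  exact mem_JJ' he hr (gammaFiltration_anti P (by omega) (mul_mem_gammaFiltration P ha hb))

lemma mem_JJ_zero (z : AdjoinRoot (KRR.extPoly P e)) : z ∈ JJ P e r 0 := by
  obtain ⟨p, rfl⟩ := AdjoinRoot.mk_surjective z
  induction p using Polynomial.induction_on' with
  | add p q hp hq => rw [map_add]; exact add_mem hp hq
  | monomial n c =>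
    rw [← Polynomial.C_mul_X_pow_eq_monomial, map_mul, map_pow, AdjoinRoot.mk_C, AdjoinRoot.mk_X]
    have hroot : AdjoinRoot.root (KRR.extPoly P e) ∈ JJ P e r 0 := by
      have := add_mem (mem_JJ' he hr (i := 0) (mem_gammaFiltration_zero P 1 : (1 : K) ∈ gammaFiltration P (0 - 0)))
        (mem_JJ' he hr (i := 1) (mem_gammaFiltration_zero P 1 : (1 : K) ∈ gammaFiltration P (0 - 1)))
      simpa [xx] using this
    induction n with
    | zero => simpa using mem_JJ (k := 0) (i := 0) (e := e) (Nat.zero_le r) (mem_gammaFiltration_zero P c)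
    | succ n ih => rw [pow_succ, ← mul_assoc]; simpa only [Nat.add_zero] using mul_mem_JJ he hr ih hroot

/-- `JJ` as ideals -/
def JI (k : ℕ) : Ideal (AdjoinRoot (KRR.extPoly P e)) where
  carrier := JJ P e r k
  add_mem' := add_mem
  zero_mem' := zero_mem _
  smul_mem' c u hu := by
    have := mul_mem_JJ he hr (mem_JJ_zero he hr c) hu
    rwa [zero_add] at this

end Rel

theorem gammaFiltration_ext (he : e ∈ P.pos) (hr : P.aug e = r + 1)
    (inst : LambdaOps (AdjoinRoot (KRR.extPoly P e))) (Pe : @PosStructure _ _ inst)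
    (hext : @IsExtension K _ _ _ _ inst P Pe (AdjoinRoot.of (KRR.extPoly P e)))
    (hline : @PosStructure.IsLine _ _ inst Pe (AdjoinRoot.root (KRR.extPoly P e)))
    (hsplit : @HasSplitting _ _ inst Pe) (k : ℕ) :
    @gammaFiltration _ _ inst Pe k = JJ P e r k := by
  letI := inst
  letI : LambdaOps ℤ := binomialLambdaOps ℤ
  have hS : IsSpecial (AdjoinRoot (KRR.extPoly P e)) := isSpecial_of_hasSplitting hsplit
  have h1 := lam_one_pos Pe
  have hKb : IsBinomial ℤ := fun _ _ => rfl
  have hAlg : IsLambdaAlg ℤ (AdjoinRoot (KRR.extPoly P e)) := fun n c => isLambdaAlg_int h1 n c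
  have hof : ∀ s a, AdjoinRoot.of (KRR.extPoly P e) (gamma s a) = gamma s (AdjoinRoot.of _ a) := map_gamma hext.isLambdaHom
  apply le_antisymm
  · rcases Nat.eq_zero_or_pos k with rfl | hk
    · exact fun z _ => mem_JJ_zero he hr z
    let G : AddSubgroup (AdjoinRoot (KRR.extPoly P e)) :=
      { carrier := {z | ∀ s, gamma s z ∈ JJ P e r s}
        zero_mem' := fun s => by
          rcases s with - | s
          · exact mem_JJ_zero he hr _
          · rw [gamma_zero_right (Nat.succ_ne_zero s)]; exact zero_mem _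
        add_mem' := fun {u w} hu hw s => by
          rw [gamma_add]
          refine sum_mem fun i hi => ?_
          rw [mem_range] at hi
          have := mul_mem_JJ he hr (hu i) (hw (s - i))
          rwa [show i + (s - i) = s by omega] at this
        neg_mem' := fun {u} hu s => by
          induction s using Nat.strong_induction_on with
          | _ s ih =>
            rcases s with - | s
            · exact mem_JJ_zero he hr _
            have h := gamma_add (s + 1) u (-u)
            rw [add_neg_cancel, gamma_zero_right (Nat.succ_ne_zero s), sum_range_succ', gamma_zero, one_mul, Nat.sub_zero] at h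
            rw [eq_neg_of_add_eq_zero_right h.symm]
            refine neg_mem (sum_mem fun i hi => ?_)
            rw [mem_range] at hi
            have := mul_mem_JJ he hr (hu (i + 1)) (ih (s + 1 - (i + 1)) (by omega))
            rwa [show i + 1 + (s + 1 - (i + 1)) = s + 1 by omega] at this }
    have hline' : ∀ n : ℕ, AdjoinRoot.root (KRR.extPoly P e) ^ n - 1 ∈ G := fun n s => by
      rcases s with - | - | s
      · exact mem_JJ_zero he hr _
      · rw [zero_add, gamma_one, ← geom_sum_mul]
        have hx : xx P e ∈ JJ P e r 1 := by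
          have := mem_JJ' he hr (k := 1) (i := 1) (mem_gammaFiltration_zero P 1 : (1 : K) ∈ gammaFiltration P (1 - 1))
          simpa using this
        exact (JI he hr 1).mul_mem_left _ hx
      · rw [gamma_thin_sub_one' h1 (lam_line Pe (isLine_pow Pe hline n))]; exact zero_mem _
    have hbase : ∀ (a : K) (n : ℕ), P.aug a = 0 → AdjoinRoot.of (KRR.extPoly P e) a * AdjoinRoot.root _ ^ n ∈ G := by
      intro a n ha s
      let f : Bool → AdjoinRoot (KRR.extPoly P e) := fun b =>
        if b then AdjoinRoot.root _ ^ n - 1 else AdjoinRoot.of _ a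
      let v : GV ℤ Bool := MvPolynomial.X (false, 0) * (1 + MvPolynomial.X (true, 0))
      have hv : v ∈ WV ℤ Bool 1 := mem_WV_one.2 (by simp [v])
      have hev : evV f v = AdjoinRoot.of (KRR.extPoly P e) a * AdjoinRoot.root _ ^ n := by
        simp [v, evV_X, f, gamma_one]
      rw [← hev, ← evV_gamma f hKb hAlg hS]
      refine evV_mem_of_mem_WV f (JI he hr) (mem_JJ_zero he hr _) (fun h => JJ_anti h) (fun hu hw => mul_mem_JJ he hr hu hw) (fun l i => ?_) (gamma_mem_WV hv s)
      cases l
      · show gamma (i + 1) (AdjoinRoot.of (KRR.extPoly P e) a) ∈ JJ P e r (i + 1)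
        rw [← hof]
        simpa using mem_JJ (k := i + 1) (i := 0) (e := e) (Nat.zero_le r) (gamma_mem P ha)
      · exact hline' n (i + 1)
    have hall : ∀ z, Pe.aug z = 0 → z ∈ G := by
      intro z hz
      suffices z - (Pe.aug z : AdjoinRoot (KRR.extPoly P e)) ∈ G by rwa [hz, Int.cast_zero, sub_zero] at this
      clear hz
      obtain ⟨p, rfl⟩ := AdjoinRoot.mk_surjective z
      induction p using Polynomial.induction_on' with
      | add p q hp hq =>
        have := add_mem hp hq
        rw [map_add, map_add, Int.cast_add]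
        convert this using 1; ring
      | monomial n c =>
        rw [← Polynomial.C_mul_X_pow_eq_monomial, map_mul, map_pow, AdjoinRoot.mk_C, AdjoinRoot.mk_X, map_mul, map_pow,
          hext.aug_comp, hline.2, one_pow, mul_one]
        have := add_mem (hbase (c - (P.aug c : K)) n (by rw [map_sub, map_intCast, Int.cast_id, sub_self]))
          (zsmul_mem (hline' n) (P.aug c))
        convert this using 1
        rw [map_sub, map_intCast, zsmul_eq_mul]; ring
    rw [gammaFiltration, if_neg (by omega), AddSubgroup.closure_le]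
    rintro _ ⟨l, h1, h2, rfl⟩
    refine JJ_anti h2 ?_
    clear h2
    induction l with
    | nil => exact mem_JJ_zero he hr _
    | cons p l ih =>
      simp only [List.map_cons, List.sum_cons, List.prod_cons]
      exact mul_mem_JJ he hr (hall _ (h1 p List.mem_cons_self) p.1) (ih fun q hq => h1 q (List.mem_cons_of_mem _ hq))
  · refine JJ_le fun i _ a ha => gammaFiltration_anti Pe (show k ≤ (k - i) + i by omega) (mul_mem_gammaFiltration Pe ?_ ?_)
    · rcases Nat.eq_zero_or_pos (k - i) with h | h
      · rw [h]; exact mem_gammaFiltration_zero Pe _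
      rw [gammaFiltration, if_neg (by omega)] at ha
      refine (AddSubgroup.closure_le ((gammaFiltration Pe (k - i)).comap (AdjoinRoot.of (KRR.extPoly P e)).toAddMonoidHom)).2 ?_ ha
      rintro _ ⟨l, h1, h2, rfl⟩
      show AdjoinRoot.of (KRR.extPoly P e) _ ∈ gammaFiltration Pe (k - i)
      rw [map_list_prod, List.map_map]
      have := mem_of_gens Pe (l.map fun p => (p.1, AdjoinRoot.of (KRR.extPoly P e) p.2)) (n := k - i)
        (fun p hp => by obtain ⟨q, hq, rfl⟩ := List.mem_map.1 hp; exact (hext.aug_comp _).trans (h1 q hq))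
        (by rw [List.map_map]; exact h2)
      rw [List.map_map] at this
      have e : ∀ p : ℕ × K, (AdjoinRoot.of (KRR.extPoly P e)) (gamma p.1 p.2) = gamma p.1 (AdjoinRoot.of (KRR.extPoly P e) p.2) :=
        fun p => hof p.1 p.2
      simp only [Function.comp_def, e] at this ⊢
      exact this
    · have hx : xx P e ∈ gammaFiltration Pe 1 := by
        have := gamma_mem Pe (k := 1) (x := xx P e) (by rw [xx, map_sub, hline.2, map_one, sub_self])
        rwa [gamma_one] at this
      clear ha
      induction i with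
      | zero => exact mem_gammaFiltration_zero Pe _
      | succ i ih => rw [pow_succ]; exact mul_mem_gammaFiltration Pe (ih (by omega)) hx

end Groth.Agent.KRRLam
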