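import Groth.Agent.KRRLam.PolyExt
import Groth.Agent.S3290

/-!
# Determinants and the first two steps of the γ-filtration
-/

open Finset

noncomputable section

namespace Groth.Agent.KRRLam

open LambdaRing LamR

universe v

variable {K : Type v} [CommRing K] [LambdaOps K] {P : PosStructure K}

lemma sum_gamma_eq_top {e : K} (he : e ∈ P.pos) {n : ℕ} (hn : (P.aug e).toNat = n) :
    ∑ i ∈ range (n + 1), gamma i (e - (n : K)) = LambdaOps.lam n e := by
  have h := congrArg (Polynomial.eval 1) (S3290.result K P e he)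
  rw [hn] at h
  simp only [Polynomial.eval_finsetSum, Polynomial.eval_mul, Polynomial.eval_C, Polynomial.eval_pow, Polynomial.eval_X,
    one_pow, mul_one, Polynomial.eval_sub, Polynomial.eval_one, sub_self] at h
  rw [h, sum_eq_single_of_mem n (by simp) fun i hi hne => by rw [mem_range] at hi; rw [zero_pow (by omega), mul_zero]]
  simp

variable (P) in
/-- the determinant of a positive element, as a unit -/
def dd (e : K) : Kˣ := by
  classical
  exact if he : e ∈ P.pos then (P.isUnit_lam e he).unit else 1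

lemma coe_dd {e : K} (he : e ∈ P.pos) : (dd P e : K) = LambdaOps.lam (P.aug e).toNat e := by
  rw [dd, dif_pos he, IsUnit.unit_spec]

lemma dd_add {a b : K} (ha : a ∈ P.pos) (hb : b ∈ P.pos) : dd P (a + b) = dd P a * dd P b := by
  have ha' := P.aug_pos a ha
  have hb' := P.aug_pos b hb
  ext
  rw [Units.val_mul, coe_dd (P.add_mem a b ha hb), coe_dd ha, coe_dd hb, map_add, Int.toNat_add ha'.le hb'.le,
    LambdaOps.lam_add, sum_eq_single_of_mem (P.aug a).toNat (by rw [mem_range]; omega) fun k hk hne => ?_]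
  · rw [Nat.add_sub_cancel_left]
  · rw [mem_range] at hk
    rcases Nat.lt_or_ge (P.aug a).toNat k with h | h
    · rw [P.lam_eq_zero a ha k (by omega), zero_mul]
    · rw [P.lam_eq_zero b hb _ (by omega), mul_zero]

variable (P) in
/-- the determinant, on all of `K` -/
def Det (x : K) : Kˣ := dd P (P.exists_sub x).choose * (dd P (P.exists_sub x).choose_spec.choose)⁻¹

lemma Det_sub {a b : K} (ha : a ∈ P.pos) (hb : b ∈ P.pos) : Det P (a - b) = dd P a * (dd P b)⁻¹ := by
  obtain ⟨hc, hd, heq⟩ := (P.exists_sub (a - b)).choose_spec.choose_spec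
  rw [Det, mul_inv_eq_iff_eq_mul, mul_right_comm, eq_mul_inv_iff_mul_eq, ← dd_add hc hb, ← dd_add ha hd]
  congr 1
  linear_combination -heq

lemma Det_pos {a : K} (ha : a ∈ P.pos) : Det P a = dd P a := by
  conv_lhs => rw [show a = (a + a) - a by ring]
  rw [Det_sub (P.add_mem a a ha ha) ha, dd_add ha ha, mul_inv_cancel_right]

lemma Det_add (x y : K) : Det P (x + y) = Det P x * Det P y := by
  obtain ⟨a, b, ha, hb, rfl⟩ := P.exists_sub x
  obtain ⟨c, d, hc, hd, rfl⟩ := P.exists_sub y
  rw [show a - b + (c - d) = (a + c) - (b + d) by ring, Det_sub (P.add_mem a c ha hc) (P.add_mem b d hb hd),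
    Det_sub ha hb, Det_sub hc hd, dd_add ha hc, dd_add hb hd, mul_inv, mul_mul_mul_comm]

variable (P) in
/-- the determinant as an additive-to-multiplicative homomorphism -/
def DetHom : K →+ Additive Kˣ := AddMonoidHom.mk' (fun x => Additive.ofMul (Det P x)) fun x y => by rw [Det_add]; rfl

lemma Det_mul (hS : IsSpecial K) (x y : K) : Det P (x * y) = Det P x ^ P.aug y * Det P y ^ P.aug x := by
  have hpos : ∀ a ∈ P.pos, ∀ b ∈ P.pos, Det P (a * b) = Det P a ^ P.aug b * Det P b ^ P.aug a := by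
    intro a ha b hb
    obtain ⟨s, hs⟩ : ∃ s : ℕ, P.aug a = s + 1 := ⟨(P.aug a).toNat - 1, by have := P.aug_pos a ha; omega⟩
    obtain ⟨t, ht⟩ : ∃ t : ℕ, P.aug b = t + 1 := ⟨(P.aug b).toNat - 1, by have := P.aug_pos b hb; omega⟩
    rw [Det_pos (P.mul_mem a b ha hb), Det_pos ha, Det_pos hb, hs, ht,
      show ((t : ℤ) + 1) = ((t + 1 : ℕ) : ℤ) by simp, show ((s : ℤ) + 1) = ((s + 1 : ℕ) : ℤ) by simp,
      zpow_natCast, zpow_natCast]
    ext
    rw [Units.val_mul, Units.val_pow_eq_pow_val, Units.val_pow_eq_pow_val, coe_dd (P.mul_mem a b ha hb), coe_dd ha, coe_dd hb,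
      map_mul, hs, ht, show (((s : ℤ) + 1) * ((t : ℤ) + 1)).toNat = (s + 1) * (t + 1) by
        rw [show ((s : ℤ) + 1) * ((t : ℤ) + 1) = (((s + 1) * (t + 1) : ℕ) : ℤ) by simp, Int.toNat_natCast],
      show ((s : ℤ) + 1).toNat = s + 1 by omega, show ((t : ℤ) + 1).toNat = t + 1 by omega,
      lam_mul_top hS (fun i hi => P.lam_eq_zero a ha i (by rw [hs]; exact_mod_cast hi))
        (fun i hi => P.lam_eq_zero b hb i (by rw [ht]; exact_mod_cast hi))]
  obtain ⟨a, b, ha, hb, rfl⟩ := P.exists_sub x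
  obtain ⟨c, d, hc, hd, rfl⟩ := P.exists_sub y
  have hsub : ∀ u w : K, Det P (u - w) = Det P u * (Det P w)⁻¹ := fun u w => by
    rw [eq_mul_inv_iff_mul_eq, ← Det_add, sub_add_cancel]
  rw [show (a - b) * (c - d) = (a * c + b * d) - (a * d + b * c) by ring, hsub, Det_add, Det_add, hpos a ha c hc,
    hpos b hb d hd, hpos a ha d hd, hpos b hb c hc, hsub a b, hsub c d, map_sub, map_sub]
  apply Additive.ofMul.injective
  simp only [ofMul_mul, ofMul_inv, ofMul_zpow, sub_smul, smul_sub, smul_add, smul_neg]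
  abel

variable (P) in
/-- augmentation zero and trivial determinant -/
def kerDet : AddSubgroup K := P.aug.toAddMonoidHom.ker ⊓ (DetHom P).ker

lemma mem_kerDet {x : K} : x ∈ kerDet P ↔ P.aug x = 0 ∧ Det P x = 1 := by
  simp [kerDet, DetHom, AddMonoidHom.mem_ker]

lemma mul_mem_kerDet (hS : IsSpecial K) {x y : K} (hx : P.aug x = 0) (hy : P.aug y = 0) : x * y ∈ kerDet P :=
  mem_kerDet.2 ⟨by rw [map_mul, hx, zero_mul], by rw [Det_mul hS, hx, hy, zpow_zero, zpow_zero, one_mul]⟩

lemma map_Det {L : Type v} [CommRing L] [LambdaOps L] {Q : PosStructure L} {g : K →+* L} (hg : IsExtension P Q g)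
    (x : K) : Units.map (g : K →* L) (Det P x) = Det Q (g x) := by
  have h : ∀ a ∈ P.pos, Units.map (g : K →* L) (dd P a) = dd Q (g a) := fun a ha => by
    ext
    rw [Units.coe_map, coe_dd ha, coe_dd (hg.pos_subset a ha), hg.aug_comp, ← hg.isLambdaHom]
    rfl
  obtain ⟨a, b, ha, hb, rfl⟩ := P.exists_sub x
  rw [map_sub, Det_sub ha hb, Det_sub (hg.pos_subset a ha) (hg.pos_subset b hb), map_mul, map_inv, h a ha, h b hb]

lemma gamma_pos_mem (hK : HasSplitting K P) {e : K} (he : e ∈ P.pos) (r : ℕ) :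
    (1 ≤ r → P.aug (gamma r (e - ((P.aug e).toNat : K))) = 0) ∧
      (2 ≤ r → gamma r (e - ((P.aug e).toNat : K)) ∈ kerDet P) := by
  obtain ⟨L, g, hg, hL, hs⟩ := exists_splitting' hK [e] (by simp [he])
  obtain ⟨s, hs1, hs2⟩ := hs e (by simp)
  have hn : (P.aug e).toNat = s.card := by rw [← hg.aug_comp, ← hs2, card_eq_aug hs1, Int.toNat_natCast]
  set t := s.map fun v => v - 1 with ht
  have hgam : g (gamma r (e - ((P.aug e).toNat : K))) = t.esymm r := by
    rw [map_gamma hg.isLambdaHom, map_sub, ← hs2, map_natCast, hn,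
      ← gamma_multiset_sum t fun u hu i => by
        obtain ⟨v, hv, rfl⟩ := Multiset.mem_map.1 hu
        exact gamma_thin_sub_one' (lam_one_pos L.posStr) (lam_line L.posStr (hs1 v hv)) i,
      ht, Multiset.sum_map_sub, Multiset.map_id', Multiset.map_const', Multiset.sum_replicate, nsmul_one]
  have ht0 : ∀ u ∈ t, L.posStr.aug u = 0 := fun u hu => by
    obtain ⟨v, hv, rfl⟩ := Multiset.mem_map.1 hu
    rw [map_sub, (hs1 v hv).2, map_one, sub_self]
  have hprod : ∀ (w : Multiset L.carrier), (∀ u ∈ w, L.posStr.aug u = 0) → 1 ≤ w.card → L.posStr.aug w.prod = 0 := by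
    intro w hw hc
    obtain ⟨u, hu⟩ := Multiset.card_pos_iff_exists_mem.1 hc
    obtain ⟨w', rfl⟩ := Multiset.exists_cons_of_mem hu
    rw [Multiset.prod_cons, map_mul, hw u hu, zero_mul]
  have haug : 1 ≤ r → P.aug (gamma r (e - ((P.aug e).toNat : K))) = 0 := fun hr => by
    rw [← hg.aug_comp, hgam, Multiset.esymm, map_multiset_sum, Multiset.map_map]
    refine Multiset.sum_eq_zero fun x hx => ?_
    obtain ⟨w, hw, rfl⟩ := Multiset.mem_map.1 hx
    rw [Multiset.mem_powersetCard] at hw
    exact hprod w (fun u hu => ht0 u (Multiset.mem_of_le hw.1 hu)) (by omega)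
  refine ⟨haug, fun hr => mem_kerDet.2 ⟨haug (by omega), ?_⟩⟩
  apply Units.map_injective (f := (g : K →* L.carrier)) hg.injective
  rw [map_Det hg, map_one, hgam]
  refine (mem_kerDet.1 ((kerDet L.posStr).multiset_sum_mem _ fun x hx => ?_)).2
  obtain ⟨w, hw, rfl⟩ := Multiset.mem_map.1 hx
  rw [Multiset.mem_powersetCard] at hw
  obtain ⟨u, hu⟩ := Multiset.card_pos_iff_exists_mem.1 (show 0 < w.card by omega)
  obtain ⟨w', rfl⟩ := Multiset.exists_cons_of_mem hu
  rw [Multiset.prod_cons]
  refine mul_mem_kerDet (isSpecial_of_hasSplitting hL) (ht0 u (Multiset.mem_of_le hw.1 hu))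
    (hprod w' (fun z hz => ht0 z (Multiset.mem_of_le hw.1 (Multiset.mem_cons_of_mem hz))) ?_)
  rw [Multiset.card_cons] at hw; omega

lemma gamma_aug_mem (hK : HasSplitting K P) {z : K} (hz : P.aug z = 0) : ∀ r : ℕ,
    (1 ≤ r → P.aug (gamma r z) = 0) ∧ (2 ≤ r → gamma r z ∈ kerDet P) := by
  have hS := isSpecial_of_hasSplitting hK
  let G : Set K := {z | ∀ r : ℕ, (1 ≤ r → P.aug (gamma r z) = 0) ∧ (2 ≤ r → gamma r z ∈ kerDet P)}
  have hadd : ∀ {x y}, x ∈ G → y ∈ G → x + y ∈ G := fun {x y} hx hy r => by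
    constructor <;> intro hr <;> rw [gamma_add]
    · rw [map_sum]
      refine sum_eq_zero fun i hi => ?_
      rw [mem_range] at hi
      rcases Nat.eq_zero_or_pos i with rfl | hi'
      · rw [gamma_zero, one_mul]; exact (hy _).1 (by omega)
      · rw [map_mul, (hx i).1 hi', zero_mul]
    · refine sum_mem fun i hi => ?_
      rw [mem_range] at hi
      rcases Nat.eq_zero_or_pos i with rfl | hi'
      · rw [gamma_zero, one_mul]; exact (hy _).2 (by omega)
      rcases Nat.eq_zero_or_pos (r - i) with h | h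
      · rw [h, gamma_zero, mul_one]; exact (hx i).2 (by omega)
      · exact mul_mem_kerDet hS ((hx i).1 hi') ((hy _).1 h)
  have hneg : ∀ {x}, x ∈ G → -x ∈ G := fun {x} hx r => by
    induction r using Nat.strong_induction_on with
    | _ r ih =>
      rcases r with - | r
      · exact ⟨fun h => absurd h (by omega), fun h => absurd h (by omega)⟩
      have h := gamma_add (r + 1) x (-x)
      rw [add_neg_cancel, gamma_zero_right (Nat.succ_ne_zero r), sum_range_succ', gamma_zero, one_mul, Nat.sub_zero] at h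
      have e : gamma (r + 1) (-x) = -∑ i ∈ range (r + 1), gamma (i + 1) x * gamma (r + 1 - (i + 1)) (-x) := by
        linear_combination -h
      constructor <;> intro hr <;> rw [e]
      · rw [map_neg, map_sum, neg_eq_zero]
        exact sum_eq_zero fun i hi => by rw [map_mul, (hx (i + 1)).1 (by omega), zero_mul]
      · refine neg_mem (sum_mem fun i hi => ?_)
        rw [mem_range] at hi
        rcases Nat.eq_zero_or_pos (r + 1 - (i + 1)) with h | h
        · rw [h, gamma_zero, mul_one]; exact (hx (i + 1)).2 (by omega)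
        · exact mul_mem_kerDet hS ((hx (i + 1)).1 (by omega)) ((ih _ (by omega)).1 h)
  obtain ⟨e, f, he, hf, rfl⟩ := P.exists_sub z
  rw [map_sub, sub_eq_zero] at hz
  rw [show e - f = (e - ((P.aug e).toNat : K)) + -(f - ((P.aug f).toNat : K)) by rw [hz]; ring]
  exact hadd (gamma_pos_mem hK he) (hneg (gamma_pos_mem hK hf))

lemma prod_aug_mem (hK : HasSplitting K P) (l : List (ℕ × K)) (hl : ∀ p ∈ l, P.aug p.2 = 0) :
    ((l.map Prod.fst).sum = 0 → (l.map fun p => gamma p.1 p.2).prod = 1) ∧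
      (1 ≤ (l.map Prod.fst).sum → P.aug (l.map fun p => gamma p.1 p.2).prod = 0) ∧
      (2 ≤ (l.map Prod.fst).sum → (l.map fun p => gamma p.1 p.2).prod ∈ kerDet P) := by
  induction l with
  | nil => simp
  | cons p l ih =>
    obtain ⟨h0, h1, h2⟩ := ih fun q hq => hl q (List.mem_cons_of_mem _ hq)
    obtain ⟨g1, g2⟩ := gamma_aug_mem hK (hl p List.mem_cons_self) p.1
    simp only [List.map_cons, List.sum_cons, List.prod_cons]
    rcases Nat.eq_zero_or_pos p.1 with hp | hp
    · rw [hp, gamma_zero, one_mul, zero_add]; exact ⟨h0, h1, h2⟩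
    refine ⟨fun h => absurd h (by omega), fun _ => by rw [map_mul, g1 hp, zero_mul], fun h => ?_⟩
    rcases Nat.eq_zero_or_pos (l.map Prod.fst).sum with hl' | hl'
    · rw [h0 hl', mul_one]; exact g2 (by omega)
    · exact mul_mem_kerDet (isSpecial_of_hasSplitting hK) (g1 hp) (h1 hl')

lemma gammaFiltration_two_le (hK : HasSplitting K P) {x : K} (hx : x ∈ gammaFiltration P 2) : x ∈ kerDet P := by
  rw [gammaFiltration, if_neg (by omega)] at hx
  refine (AddSubgroup.closure_le _).2 ?_ hx
  rintro _ ⟨l, h1, h2, rfl⟩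
  exact (prod_aug_mem hK l h1).2.2 h2

lemma aug_eq_zero_of_mem_one (hK : HasSplitting K P) {x : K} (hx : x ∈ gammaFiltration P 1) : P.aug x = 0 := by
  rw [gammaFiltration, if_neg one_ne_zero] at hx
  refine (AddSubgroup.closure_le P.aug.toAddMonoidHom.ker).2 ?_ hx
  rintro _ ⟨l, h1, h2, rfl⟩
  exact (prod_aug_mem hK l h1).2.1 h2

theorem lineElements_gr1 (hK : HasSplitting K P)
    (hLinv : ∀ w : K, P.IsLine w → ∃ w' : K, P.IsLine w' ∧ w * w' = 1)
    (hdet : ∀ e : K, e ∈ P.pos → LambdaOps.lam (P.aug e).toNat e ∈ P.pos) :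
    (∀ x : K, x ∈ gammaFiltration P 1 → ∃ u : K, P.IsLine u ∧ x - (u - 1) ∈ gammaFiltration P 2) ∧
    ∀ u v : K, P.IsLine u → P.IsLine v → u - v ∈ gammaFiltration P 2 → u = v := by
  have hline : ∀ e ∈ P.pos, P.IsLine (LambdaOps.lam (P.aug e).toNat e) := fun e he =>
    ⟨hdet e he, by rw [aug_lam hK he, Nat.choose_self, Nat.cast_one]⟩
  have key : ∀ e ∈ P.pos, (e - ((P.aug e).toNat : K)) - (LambdaOps.lam (P.aug e).toNat e - 1) ∈ gammaFiltration P 2 := by
    intro e he
    obtain ⟨n, hn⟩ : ∃ n, (P.aug e).toNat = n + 1 := ⟨(P.aug e).toNat - 1, by have := P.aug_pos e he; omega⟩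
    have haug : P.aug (e - ((P.aug e).toNat : K)) = 0 := by
      rw [map_sub, map_natCast, Int.toNat_of_nonneg (P.aug_pos e he).le, sub_self]
    rw [hn] at haug ⊢
    rw [← sum_gamma_eq_top he hn, sum_range_succ', sum_range_succ', gamma_zero, gamma_one, add_sub_cancel_right,
      sub_add_cancel_right]
    exact neg_mem (sum_mem fun i _ => gammaFiltration_anti P (show 2 ≤ i + 1 + 1 by omega) (gamma_mem P haug))
  refine ⟨fun x hx => ?_, fun u v hu hv huv => ?_⟩
  · have haug := aug_eq_zero_of_mem_one hK hx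
    obtain ⟨e, f, he, hf, rfl⟩ := P.exists_sub x
    rw [map_sub, sub_eq_zero] at haug
    obtain ⟨w', hw', hww'⟩ := hLinv _ (hline f hf)
    refine ⟨LambdaOps.lam (P.aug e).toNat e * w', isLine_mul P (hline e he) hw', ?_⟩
    have he' := key e he
    have hf' := key f hf
    have hc : (LambdaOps.lam (P.aug e).toNat e - LambdaOps.lam (P.aug f).toNat f) * (1 - w') ∈ gammaFiltration P 2 := by
      have := mul_mem_gammaFiltration P (m := 1) (n := 1)
        (gamma_one (LambdaOps.lam (P.aug e).toNat e - LambdaOps.lam (P.aug f).toNat f) ▸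
          gamma_mem P (by rw [map_sub, (hline e he).2, (hline f hf).2, sub_self]))
        (gamma_one (1 - w') ▸ gamma_mem P (by rw [map_sub, map_one, hw'.2, sub_self]))
      exact this
    have := add_mem (sub_mem he' hf') hc
    rw [haug] at this
    convert this using 1
    rw [haug]
    linear_combination -hww'
  · have h := (mem_kerDet.1 (gammaFiltration_two_le hK huv)).2
    rw [Det_sub hu.1 hv.1, mul_inv_eq_one] at h
    have := congrArg Units.val h
    rwa [coe_dd hu.1, coe_dd hv.1, hu.2, hv.2, Int.toNat_one, LambdaOps.lam_one, LambdaOps.lam_one] at this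

end Groth.Agent.KRRLam
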