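import Groth.Agent.KRRLam.PolyExt

/-!
# The elementary extension of a λ-ring with the splitting property
-/

open Finset

noncomputable section

namespace Groth.Agent.KRRLam

open LambdaRing LamR

attribute [local instance] lamPoly lamM

section Generic

lemma ringHom_aeval' {R T σ : Type*} [CommRing R] [CommRing T] [Algebra ℤ R] [Algebra ℤ T] (f : R →+* T) (u : σ → R)
    (p : MvPolynomial σ ℤ) : f (MvPolynomial.aeval u p) = MvPolynomial.aeval (fun i => f (u i)) p := by
  induction p using MvPolynomial.induction_on with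
  | C r => simp
  | add a b ha hb => simp only [map_add, ha, hb]
  | mul_X a i ha => simp only [map_mul, ha, MvPolynomial.aeval_X]

variable {S : Type*} [CommRing S] [LambdaOps S]

/-- if a monic polynomial divides all its Adams operations it divides all its `λ^n`, `n ≥ 1` -/
lemma dvd_lam_of_dvd_adams (htf : ∀ (n : ℕ) (a b : S), a * ((n : S) + 1) = b * ((n : S) + 1) → a = b)
    {q : Polynomial S} (hq : q.Monic) (hψ : ∀ k, q ∣ adamsOp (k + 1) q) (n : ℕ) :
    q ∣ LambdaOps.lam (n + 1) q := by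
  have h := congrArg (PowerSeries.coeff n) (logDerivSeries_spec q)
  rw [PowerSeries.coeff_derivative, coeff_lamSeries, PowerSeries.coeff_mul] at h
  have hd : q ∣ LambdaOps.lam (n + 1) q * ((n : Polynomial S) + 1) := by
    rw [h]
    refine dvd_sum fun p _ => Dvd.dvd.mul_right ?_ _
    have e := hψ p.1
    rw [adamsOp] at e
    exact (isUnit_one.neg.pow p.1).dvd_mul_left.1 e
  rw [← Polynomial.modByMonic_eq_zero_iff_dvd hq] at hd ⊢
  rw [show LambdaOps.lam (n + 1) q * ((n : Polynomial S) + 1) = ((n : S) + 1) • LambdaOps.lam (n + 1) q by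
    rw [Polynomial.smul_eq_C_mul, map_add, map_one, map_natCast, mul_comm], Polynomial.smul_modByMonic] at hd
  ext i
  refine htf n _ _ ?_
  have := congrArg (fun p => Polynomial.coeff p i) hd
  simp only [Polynomial.coeff_smul, smul_eq_mul, Polynomial.coeff_zero] at this
  rw [Polynomial.coeff_zero, zero_mul, mul_comm]
  exact this

lemma dvd_lam_mul (hS : IsSpecial S) {p : S} (hp : ∀ k, p ∣ LambdaOps.lam (k + 1) p) (g : S) {n : ℕ} (hn : 1 ≤ n) :
    p ∣ LambdaOps.lam n (g * p) := by
  rw [lam_mul_eq hS, ← Ideal.mem_span_singleton, ← Ideal.Quotient.eq_zero_iff_mem, ringHom_aeval']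
  have h0 : MvPolynomial.bind₁ (Sum.elim MvPolynomial.X fun _ => 0) (mulU n) = (0 : MvPolynomial ℕ ℤ) := by
    refine eq_of_forall fun R _ _ s => ?_
    rw [MvPolynomial.aeval_bind₁, map_zero,
      show (fun i => MvPolynomial.aeval (es s) ((Sum.elim MvPolynomial.X fun _ => 0 : ℕ ⊕ ℕ → MvPolynomial ℕ ℤ) i)) =
        Sum.elim (es s) (es (0 : Multiset R)) from funext fun i => by
          rcases i with i | i
          · simp
          · simp only [Sum.elim_inr, map_zero]
            exact (esymm_eq_zero_of_card_lt (by simp)).symm,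
      mulU_spec, esymm_eq_zero_of_card_lt (by simp [prodMs]; omega)]
  rw [show (fun i => Ideal.Quotient.mk (Ideal.span {p}) (Sum.elim (lamv g) (lamv p) i)) =
      fun i => MvPolynomial.aeval (fun j => Ideal.Quotient.mk (Ideal.span {p}) (lamv g j))
        ((Sum.elim MvPolynomial.X fun _ => 0 : ℕ ⊕ ℕ → MvPolynomial ℕ ℤ) i) from funext fun i => by
        rcases i with i | i
        · simp
        · simp only [Sum.elim_inr, map_zero]
          rw [Ideal.Quotient.eq_zero_iff_mem, Ideal.mem_span_singleton]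
          exact hp i,
    ← MvPolynomial.aeval_bind₁, h0, map_zero]

end Generic

universe v

variable {K : Type v} [CommRing K] [LambdaOps K] {P : PosStructure K}

lemma extPoly_map_splitting {L : Type v} [CommRing L] [LambdaOps L] {Q : PosStructure L} {g : K →+* L}
    (hg : IsExtension P Q g) {e : K} {s : Multiset L} (hs : ∀ v ∈ s, Q.IsLine v) (hsum : s.sum = g e) :
    (KRR.extPoly P e).map g = (s.map fun v => Polynomial.X - Polynomial.C v).prod := by
  have hn : (P.aug e).toNat = s.card := by rw [← hg.aug_comp, ← hsum, card_eq_aug hs, Int.toNat_natCast]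
  rw [Multiset.prod_X_sub_X_eq_sum_esymm, KRR.extPoly, Polynomial.map_sum, hn]
  refine sum_congr rfl fun i _ => ?_
  rw [Polynomial.map_mul, Polynomial.map_C, Polynomial.map_pow, Polynomial.map_X, map_mul, map_pow, map_neg, map_one,
    hg.isLambdaHom, ← hsum, lam_multiset_sum s fun v hv => lam_line Q (hs v hv), map_mul, map_pow, map_neg, map_one]
  rw [mul_assoc]

lemma extPoly_dvd_lam (hK : HasSplitting K P) {e : K} (he : e ∈ P.pos) (n : ℕ) :
    KRR.extPoly P e ∣ LambdaOps.lam (n + 1) (KRR.extPoly P e) := by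
  obtain ⟨L, g, hg, hs⟩ := exists_splitting hK [e] (by simp [he])
  obtain ⟨s, hs1, hs2⟩ := hs e (by simp)
  rw [← Polynomial.map_dvd_map g hg.injective (extPoly_monic P e), map_poly_lam hg.isLambdaHom, extPoly_map_splitting hg hs1 hs2]
  obtain ⟨a, ha⟩ := exists_eq_map_univ s rfl
  have hline : ∀ i, L.posStr.IsLine (a i) := fun i => hs1 _ (ha ▸ Multiset.mem_map_of_mem a (Finset.mem_univ i))
  let π : MvPolynomial (Fin s.card) ℤ →+* L.carrier := (MvPolynomial.aeval a : MvPolynomial (Fin s.card) ℤ →ₐ[ℤ] L.carrier).toRingHom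
  let q : Polynomial (MvPolynomial (Fin s.card) ℤ) := ∏ i, (Polynomial.X - Polynomial.C (MvPolynomial.X i))
  have hqmap : q.map π = (s.map fun v => Polynomial.X - Polynomial.C v).prod := by
    conv_rhs => rw [ha, Multiset.map_map]
    rw [Polynomial.map_prod]
    show _ = ∏ i, (Polynomial.X - Polynomial.C (a i))
    exact prod_congr rfl fun i _ => by simp [π]
  rw [← hqmap, ← map_poly_lam (fun m v => aeval_lines_lam hline m v)]
  refine Polynomial.map_dvd π (dvd_lam_of_dvd_adams (fun m x y h => ?_) (Polynomial.monic_prod_of_monic _ _ fun i _ => Polynomial.monic_X_sub_C _) (fun k => ?_) n)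
  · exact mul_right_cancel₀ (Nat.cast_add_one_ne_zero m) h
  · rw [adamsOp_poly (isSpecial_M _), map_prod]
    refine prod_dvd_prod_of_dvd _ _ fun i _ => ?_
    have hX : adamsOp (k + 1) (MvPolynomial.X i : MvPolynomial (Fin s.card) ℤ) = MvPolynomial.X i ^ (k + 1) :=
      adamsOp_thin (fun j hj => adamsOp_M_monomial _ (Finsupp.single i 1) j hj) _ (by omega)
    simp only [map_sub, Polynomial.coe_eval₂RingHom, Polynomial.eval₂_X, Polynomial.eval₂_C, RingHom.comp_apply,
      adamsRingHom_apply, hX, map_pow]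
    exact sub_dvd_pow_sub_pow _ _ _

section Quot

variable (hK : HasSplitting K P) {e : K} (he : e ∈ P.pos)
include hK he

lemma lam_congr {z z' : Polynomial K} (h : KRR.extPoly P e ∣ z' - z) (n : ℕ) :
    KRR.extPoly P e ∣ LambdaOps.lam n z' - LambdaOps.lam n z := by
  have hS := isSpecial_poly (isSpecial_of_hasSplitting hK)
  obtain ⟨g, hg⟩ := h
  rw [show z' = z + g * KRR.extPoly P e by linear_combination hg, LambdaOps.lam_add, sum_range_succ, Nat.sub_self,
    LambdaOps.lam_zero, mul_one, add_sub_cancel_right]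
  refine dvd_sum fun i hi => Dvd.dvd.mul_left ?_ _
  rw [mem_range] at hi
  exact dvd_lam_mul hS (extPoly_dvd_lam hK he) g (by omega)

lemma mk_out (y : AdjoinRoot (KRR.extPoly P e)) :
    AdjoinRoot.mk (KRR.extPoly P e) (Function.surjInv AdjoinRoot.mk_surjective y) = y := Function.surjInv_eq _ y

/-- λ-operations on the elementary extension -/
@[reducible] def lamQ : LambdaOps (AdjoinRoot (KRR.extPoly P e)) where
  lam n y := AdjoinRoot.mk _ (LambdaOps.lam n (Function.surjInv AdjoinRoot.mk_surjective y))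
  lam_zero y := by rw [LambdaOps.lam_zero, map_one]
  lam_one y := by rw [LambdaOps.lam_one, mk_out hK he]
  lam_add k x y := by
    have h : KRR.extPoly P e ∣ Function.surjInv AdjoinRoot.mk_surjective (x + y) -
        (Function.surjInv AdjoinRoot.mk_surjective x + Function.surjInv AdjoinRoot.mk_surjective y) := by
      rw [← AdjoinRoot.mk_eq_mk, map_add, mk_out hK he, mk_out hK he, mk_out hK he]
    rw [AdjoinRoot.mk_eq_mk.2 (lam_congr hK he h k), LambdaOps.lam_add, map_sum]
    exact sum_congr rfl fun i _ => map_mul _ _ _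

lemma lamQ_mk (n : ℕ) (z : Polynomial K) :
    AdjoinRoot.mk (KRR.extPoly P e) (LambdaOps.lam n z) = (lamQ hK he).lam n (AdjoinRoot.mk _ z) := by
  refine (AdjoinRoot.mk_eq_mk.2 (lam_congr hK he ?_ n)).symm
  rw [← AdjoinRoot.mk_eq_mk, mk_out hK he]

lemma isSpecial_quot :
    @IsSpecial (AdjoinRoot (KRR.extPoly P e)) _ (lamQ hK he) :=
  @isSpecial_of_surjective _ _ _ _ _ (lamQ hK he) (isSpecial_poly (isSpecial_of_hasSplitting hK)) (AdjoinRoot.mk _)
    AdjoinRoot.mk_surjective (lamQ_mk hK he)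

/-- the augmentation -/
def augQ : AdjoinRoot (KRR.extPoly P e) →+* ℤ :=
  AdjoinRoot.lift P.aug 1 (by
    rw [KRR.extPoly, Polynomial.eval₂_finsetSum]
    have hpos := P.aug_pos e he
    have h : ∀ i, (Polynomial.C ((-1 : K) ^ i * LambdaOps.lam i e) * Polynomial.X ^ ((P.aug e).toNat - i)).eval₂ P.aug 1 =
        (-1 : ℤ) ^ i * ((P.aug e).toNat.choose i : ℤ) := fun i => by
      simp [LamR.aug_lam hK he, Polynomial.eval₂_mul, Polynomial.eval₂_C, Polynomial.eval₂_pow, Polynomial.eval₂_neg, Polynomial.eval₂_one]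
    rw [sum_congr rfl fun i _ => h i, Int.alternating_sum_range_choose, if_neg (by omega)])

lemma augQ_of (a : K) : augQ hK he (AdjoinRoot.of _ a) = P.aug a := AdjoinRoot.lift_of _

lemma augQ_root : augQ hK he (AdjoinRoot.root _) = 1 := AdjoinRoot.lift_root _

lemma of_lam (n : ℕ) (a : K) :
    AdjoinRoot.of (KRR.extPoly P e) (LambdaOps.lam n a) = (lamQ hK he).lam n (AdjoinRoot.of _ a) := by
  rw [← AdjoinRoot.mk_C, ← AdjoinRoot.mk_C, ← lamQ_mk hK he, lam_C]

lemma lam_root (j : ℕ) (hj : 2 ≤ j) : (lamQ hK he).lam j (AdjoinRoot.root (KRR.extPoly P e)) = 0 := by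
  rw [← AdjoinRoot.mk_X, ← lamQ_mk hK he, lam_X (lam_one_pos P) j hj, map_zero]

/-- the positive elements -/
def posQ : Set (AdjoinRoot (KRR.extPoly P e)) :=
  {z | ∃ a : ℕ, augQ hK he z = a + 1 ∧ (∀ i, a + 1 < i → (lamQ hK he).lam i z = 0) ∧ IsUnit ((lamQ hK he).lam (a + 1) z)}

lemma of_mem_posQ {a : K} (ha : a ∈ P.pos) : AdjoinRoot.of (KRR.extPoly P e) a ∈ posQ hK he := by
  have hpos := P.aug_pos a ha
  obtain ⟨c, hc⟩ : ∃ c : ℕ, P.aug a = c + 1 := ⟨(P.aug a).toNat - 1, by omega⟩
  refine ⟨c, by rw [augQ_of hK he, hc], fun i hi => ?_, ?_⟩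
  · rw [← of_lam hK he, P.lam_eq_zero a ha i (by omega), map_zero]
  · rw [← of_lam hK he, show c + 1 = (P.aug a).toNat by omega]
    exact (P.isUnit_lam a ha).map _

lemma add_mem_posQ {x y : AdjoinRoot (KRR.extPoly P e)} (hx : x ∈ posQ hK he) (hy : y ∈ posQ hK he) :
    x + y ∈ posQ hK he := by
  letI := lamQ hK he
  obtain ⟨a, ha, ha0, hau⟩ := hx
  obtain ⟨b, hb, hb0, hbu⟩ := hy
  refine ⟨a + b + 1, by rw [map_add, ha, hb]; push_cast; ring, fun i hi => ?_, ?_⟩
  · show LambdaOps.lam i (x + y) = 0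
    rw [LambdaOps.lam_add]
    refine sum_eq_zero fun k hk => ?_
    rw [mem_range] at hk
    rcases Nat.lt_or_ge (a + 1) k with h | h
    · rw [show LambdaOps.lam k x = 0 from ha0 k h, zero_mul]
    · rw [show LambdaOps.lam (i - k) y = 0 from hb0 _ (by omega), mul_zero]
  · show IsUnit (LambdaOps.lam _ (x + y))
    rw [LambdaOps.lam_add, sum_eq_single_of_mem (a + 1) (by rw [mem_range]; omega) fun k hk hne => ?_]
    · rw [show a + b + 1 + 1 - (a + 1) = b + 1 by omega]; exact hau.mul hbu
    · rw [mem_range] at hk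
      rcases Nat.lt_or_ge (a + 1) k with h | h
      · rw [show LambdaOps.lam k x = 0 from ha0 k h, zero_mul]
      · rw [show LambdaOps.lam (a + b + 1 + 1 - k) y = 0 from hb0 _ (by omega), mul_zero]

lemma mul_mem_posQ {x y : AdjoinRoot (KRR.extPoly P e)} (hx : x ∈ posQ hK he) (hy : y ∈ posQ hK he) :
    x * y ∈ posQ hK he := by
  letI := lamQ hK he
  obtain ⟨a, ha, ha0, hau⟩ := hx
  obtain ⟨b, hb, hb0, hbu⟩ := hy
  have hS := isSpecial_quot hK he
  obtain ⟨c, hc⟩ : ∃ c, (a + 1) * (b + 1) = c + 1 := ⟨a * b + a + b, by ring⟩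
  refine ⟨c, ?_, fun i hi => ?_, ?_⟩
  · rw [map_mul, ha, hb]; exact_mod_cast hc
  · exact lam_mul_eq_zero hS (a := a + 1) (b := b + 1) (fun i hi => ha0 i hi) (fun i hi => hb0 i hi) (by omega)
  · show IsUnit (LambdaOps.lam (c + 1) (x * y))
    rw [← hc, lam_mul_top hS (fun i hi => ha0 i hi) (fun i hi => hb0 i hi)]
    exact (hau.pow _).mul (hbu.pow _)

lemma lam_diag : ∀ n : ℕ, (lamQ hK he).lam (n + 1) (AdjoinRoot.of (KRR.extPoly P e) e) =
    (lamQ hK he).lam (n + 1) (AdjoinRoot.of _ e - AdjoinRoot.root _) +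
      AdjoinRoot.root _ * (lamQ hK he).lam n (AdjoinRoot.of _ e - AdjoinRoot.root _) := by
  letI := lamQ hK he
  intro n
  conv_lhs => rw [show AdjoinRoot.of (KRR.extPoly P e) e = AdjoinRoot.root _ + (AdjoinRoot.of _ e - AdjoinRoot.root _) by ring]
  exact lam_succ_thin_add (lam_root hK he) n _

lemma lam_diff_eq (n : ℕ) :
    (lamQ hK he).lam n (AdjoinRoot.of (KRR.extPoly P e) e - AdjoinRoot.root _) =
      ∑ k ∈ range (n + 1), AdjoinRoot.of _ (LambdaOps.lam k e) * (-AdjoinRoot.root _) ^ (n - k) := by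
  induction n with
  | zero => simp [(lamQ hK he).lam_zero, LambdaOps.lam_zero]
  | succ n ih =>
    have h := lam_diag hK he n
    rw [← of_lam hK he] at h
    rw [sum_range_succ, Nat.sub_self, pow_zero, mul_one, eq_sub_of_add_eq h.symm, ih, mul_sum, sub_eq_iff_eq_add,
      add_assoc, add_comm (AdjoinRoot.of _ (LambdaOps.lam (n + 1) e)), ← add_assoc, ← sum_add_distrib, sum_eq_zero, zero_add]
    intro k hk
    rw [mem_range] at hk
    rw [show n + 1 - k = n - k + 1 by omega, pow_succ]
    ring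

lemma lam_diff_vanish {r : ℕ} (hr : (P.aug e).toNat = r + 1) :
    (lamQ hK he).lam (r + 1) (AdjoinRoot.of (KRR.extPoly P e) e - AdjoinRoot.root _) = 0 := by
  rw [lam_diff_eq hK he]
  have hrel := relation P e hr
  calc _ = (-1 : AdjoinRoot (KRR.extPoly P e)) ^ (r + 1) * ∑ k ∈ range (r + 1 + 1),
        AdjoinRoot.of (KRR.extPoly P e) ((-1) ^ k * LambdaOps.lam k e) * ell P e ^ (r + 1 - k) := by
        rw [mul_sum]
        refine sum_congr rfl fun k hk => ?_
        rw [mem_range] at hk
        obtain ⟨j, hj⟩ : ∃ j, r + 1 = k + j := ⟨r + 1 - k, by omega⟩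
        rw [hj, Nat.add_sub_cancel_left, neg_pow, map_mul, map_pow, map_neg, map_one, pow_add]
        have hh : (-1 : AdjoinRoot (KRR.extPoly P e)) ^ k * (-1) ^ k = 1 := by rw [← pow_add, Even.neg_one_pow ⟨k, rfl⟩]
        linear_combination -((-1 : AdjoinRoot (KRR.extPoly P e)) ^ j * AdjoinRoot.of _ (LambdaOps.lam k e) * AdjoinRoot.root _ ^ j) * hh
    _ = 0 := by rw [hrel, mul_zero]

/-- the positive structure of the elementary extension -/
def posStructQ : @PosStructure (AdjoinRoot (KRR.extPoly P e)) _ (lamQ hK he) :=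
  letI := lamQ hK he
  { aug := augQ hK he
    aug_surjective := fun z => ⟨(z : AdjoinRoot (KRR.extPoly P e)), map_intCast _ z⟩
    pos := posQ hK he
    add_mem := fun _ _ h h' => add_mem_posQ hK he h h'
    mul_mem := fun _ _ h h' => mul_mem_posQ hK he h h'
    natCast_mem := fun n hn => by rw [← map_natCast (AdjoinRoot.of (KRR.extPoly P e))]; exact of_mem_posQ hK he (P.natCast_mem n hn)
    exists_sub := fun y => by
      obtain ⟨z, rfl⟩ := AdjoinRoot.mk_surjective y
      have hone : (1 : AdjoinRoot (KRR.extPoly P e)) ∈ posQ hK he := by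
        rw [← map_one (AdjoinRoot.of (KRR.extPoly P e))]; exact of_mem_posQ hK he (one_mem_pos P)
      have hroot : AdjoinRoot.root (KRR.extPoly P e) ∈ posQ hK he := by
        have hu : IsUnit (AdjoinRoot.root (KRR.extPoly P e)) := by
          have hpos := P.aug_pos e he
          obtain ⟨r, hr⟩ : ∃ r, (P.aug e).toNat = r + 1 := ⟨(P.aug e).toNat - 1, by omega⟩
          have h := lam_diag hK he r
          have hz := lam_diff_vanish hK he hr
          rw [hz, zero_add, ← of_lam hK he] at h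
          have hu := (P.isUnit_lam e he).map (AdjoinRoot.of (KRR.extPoly P e))
          rw [hr, h] at hu
          exact isUnit_of_mul_isUnit_left hu
        refine ⟨0, by rw [augQ_root hK he]; simp, fun i hi => lam_root hK he i (by omega), ?_⟩
        rw [zero_add, (lamQ hK he).lam_one]; exact hu
      let G : AddSubgroup (AdjoinRoot (KRR.extPoly P e)) :=
        { carrier := {y | ∃ a b, a ∈ posQ hK he ∧ b ∈ posQ hK he ∧ y = a - b}
          zero_mem' := ⟨1, 1, hone, hone, by ring⟩
          add_mem' := fun {x y} ⟨a, b, ha, hb, h⟩ ⟨a', b', ha', hb', h'⟩ =>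
            ⟨a + a', b + b', add_mem_posQ hK he ha ha', add_mem_posQ hK he hb hb', by rw [h, h']; ring⟩
          neg_mem' := fun {x} ⟨a, b, ha, hb, h⟩ => ⟨b, a, hb, ha, by rw [h]; ring⟩ }
      have hpow : ∀ k, AdjoinRoot.root (KRR.extPoly P e) ^ k ∈ posQ hK he := fun k => by
        induction k with
        | zero => rw [pow_zero]; exact hone
        | succ k ih => rw [pow_succ]; exact mul_mem_posQ hK he ih hroot
      show AdjoinRoot.mk _ z ∈ G
      induction z using Polynomial.induction_on' with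
      | add p q hp hq => rw [map_add]; exact G.add_mem hp hq
      | monomial k c =>
        obtain ⟨a, b, ha, hb, rfl⟩ := P.exists_sub c
        refine ⟨AdjoinRoot.of _ a * AdjoinRoot.root _ ^ k, AdjoinRoot.of _ b * AdjoinRoot.root _ ^ k,
          mul_mem_posQ hK he (of_mem_posQ hK he ha) (hpow k), mul_mem_posQ hK he (of_mem_posQ hK he hb) (hpow k), ?_⟩
        rw [← Polynomial.C_mul_X_pow_eq_monomial, map_mul, map_pow, AdjoinRoot.mk_C, AdjoinRoot.mk_X, map_sub, sub_mul]
    aug_pos := fun x ⟨a, ha, _, _⟩ => by rw [ha]; positivity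
    lam_eq_zero := fun x ⟨a, ha, ha0, _⟩ i hi => ha0 i (by omega)
    isUnit_lam := fun x ⟨a, ha, _, hau⟩ => by
      rw [show (augQ hK he x).toNat = a + 1 by omega]; exact hau }

lemma injective_of : Function.Injective (AdjoinRoot.of (KRR.extPoly P e)) := by
  haveI := nontrivial_of_pos P
  rw [injective_iff_map_eq_zero]
  intro a ha
  rw [← AdjoinRoot.mk_C, AdjoinRoot.mk_eq_zero] at ha
  have hpos := P.aug_pos e he
  by_contra hne
  refine hne (Polynomial.C_eq_zero.1 ?_)
  rw [← Polynomial.modByMonic_eq_zero_iff_dvd (extPoly_monic P e), Polynomial.modByMonic_eq_self_iff (extPoly_monic P e) |>.2] at ha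
  · exact ha
  · rw [Polynomial.degree_eq_natDegree (extPoly_monic P e).ne_zero, extPoly_natDegree P e]
    refine lt_of_le_of_lt Polynomial.degree_C_le ?_
    exact_mod_cast (show 0 < (P.aug e).toNat by omega)

theorem exists_elementary_extension :
    ∃ (inst : LambdaRing.LambdaOps (AdjoinRoot (KRR.extPoly P e))) (Pe : @LambdaRing.PosStructure _ _ inst),
      (∀ (i : ℕ) (x : K), @LambdaRing.LambdaOps.lam _ _ inst i (AdjoinRoot.of (KRR.extPoly P e) x) =
        AdjoinRoot.of (KRR.extPoly P e) (LambdaRing.LambdaOps.lam i x)) ∧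
      (∀ i : ℕ, 2 ≤ i → @LambdaRing.LambdaOps.lam _ _ inst i (AdjoinRoot.root (KRR.extPoly P e)) = 0) ∧
      @LambdaRing.IsExtension K _ _ _ _ inst P Pe (AdjoinRoot.of (KRR.extPoly P e)) ∧
      @LambdaRing.PosStructure.IsLine _ _ inst Pe (AdjoinRoot.root (KRR.extPoly P e)) ∧
      (2 ≤ P.aug e → AdjoinRoot.of (KRR.extPoly P e) e - AdjoinRoot.root (KRR.extPoly P e) ∈
        (@LambdaRing.PosStructure.pos _ _ inst Pe)) := by
  letI := lamQ hK he
  refine ⟨lamQ hK he, posStructQ hK he, fun i x => (of_lam hK he i x).symm, lam_root hK he,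
    ⟨fun i x => of_lam hK he i x, injective_of hK he, augQ_of hK he, fun a ha => of_mem_posQ hK he ha⟩, ?_, fun h2 => ?_⟩
  · -- the root is a line element
    obtain ⟨r, hr⟩ : ∃ r, (P.aug e).toNat = r + 1 := ⟨(P.aug e).toNat - 1, by have := P.aug_pos e he; omega⟩
    refine ⟨⟨0, by rw [augQ_root hK he]; simp, fun i hi => lam_root hK he i (by omega), ?_⟩, augQ_root hK he⟩
    rw [zero_add, (lamQ hK he).lam_one]
    have h := lam_diag hK he r
    have hz := lam_diff_vanish hK he hr
    rw [hz, zero_add, ← of_lam hK he] at h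
    have hu := (P.isUnit_lam e he).map (AdjoinRoot.of (KRR.extPoly P e))
    rw [hr, h] at hu
    exact isUnit_of_mul_isUnit_left hu
  · obtain ⟨r, hr⟩ : ∃ r, (P.aug e).toNat = r + 1 + 1 := ⟨(P.aug e).toNat - 2, by omega⟩
    have hz := lam_diff_vanish hK he hr
    refine ⟨r, ?_, fun i hi => ?_, ?_⟩
    · rw [map_sub, augQ_of hK he, augQ_root hK he]; omega
    · induction i using Nat.strong_induction_on with
      | _ i ih =>
        rcases eq_or_lt_of_le (show r + 1 + 1 ≤ i by omega) with h | h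
        · exact h ▸ hz
        · obtain ⟨j, rfl⟩ : ∃ j, i = j + 1 := ⟨i - 1, by omega⟩
          have h' := lam_diag hK he j
          rw [ih j (by omega) (by omega), mul_zero, add_zero, ← of_lam hK he,
            P.lam_eq_zero e he _ (by omega), map_zero] at h'
          exact h'.symm
    · have h := lam_diag hK he (r + 1)
      rw [hz, zero_add, ← of_lam hK he] at h
      have hu := (P.isUnit_lam e he).map (AdjoinRoot.of (KRR.extPoly P e))
      rw [hr, h] at hu
      exact isUnit_of_mul_isUnit_right hu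

end Quot

end Groth.Agent.KRRLam
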