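import Groth.Agent.KRRLam.Residue
import Groth.Agent.KRRLam.Det
import Groth.Agent.KRRLam.Elementary
import Mathlib.RingTheory.Localization.BaseChange

/-!
# Adams–Riemann–Roch for an elementary extension
-/

open Finset TensorProduct

noncomputable section

namespace Groth.Agent.KRRLam

open LambdaRing LamR

universe v

section Gen

lemma esymm_map_mul_right {R : Type*} [CommRing R] (t : R) : ∀ (s : Multiset R) (i : ℕ),
    (s.map (· * t)).esymm i = s.esymm i * t ^ i := by
  intro s
  induction s using Multiset.induction_on with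
  | empty =>
    intro i
    rcases i with - | i
    · simp [esymm_zero']
    · rw [Multiset.map_zero, esymm_eq_zero_of_card_lt (by simp)]; simp
  | cons a s ih =>
    intro i
    rcases i with - | i
    · simp [esymm_zero']
    · rw [Multiset.map_cons, esymm_cons', esymm_cons', ih, ih, pow_succ]; ring

lemma bott_eq {A : Type*} [CommRing A] [LambdaOps A] (P : PosStructure A) (j : ℕ) (x : A) {n : ℕ}
    (h : (P.aug x).toNat = n) :
    KRR.bott P j x = MvPolynomial.aeval (fun i : Fin n => LambdaOps.lam (i.1 + 1) x) (KRR.bottPoly j n) := by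
  subst h; rfl

lemma ringHom_aeval_fin {σ S T : Type*} [CommRing S] [CommRing T] [Algebra ℤ S] [Algebra ℤ T] (f : S →+* T) (u : σ → S)
    (p : MvPolynomial σ ℤ) : f (MvPolynomial.aeval u p) = MvPolynomial.aeval (fun i => f (u i)) p := by
  induction p using MvPolynomial.induction_on with
  | C r => simp
  | add a b ha hb => simp only [map_add, ha, hb]
  | mul_X a i ha => simp only [map_mul, ha, MvPolynomial.aeval_X]

lemma aeval_bottPoly {R : Type*} [CommRing R] [Algebra ℤ R] (j : ℕ) {n : ℕ} (b : Fin n → R) :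
    MvPolynomial.aeval (fun i : Fin n => ((Finset.univ : Finset (Fin n)).val.map b).esymm (i.1 + 1)) (KRR.bottPoly j n) =
      ∏ k, ∑ s ∈ range j, b k ^ s := by
  have h : (fun i : Fin n => ((Finset.univ : Finset (Fin n)).val.map b).esymm (i.1 + 1)) =
      fun i => MvPolynomial.aeval b (MvPolynomial.esymm (Fin n) ℤ (i.1 + 1)) := funext fun i =>
    (MvPolynomial.aeval_esymm_eq_multiset_esymm (Fin n) ℤ (n := i.1 + 1) b).symm
  rw [h, ← MvPolynomial.comp_aeval (f := fun i : Fin n => MvPolynomial.esymm (Fin n) ℤ (i.1 + 1)) (MvPolynomial.aeval b),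
    AlgHom.comp_apply,
    show MvPolynomial.aeval (fun i : Fin n => MvPolynomial.esymm (Fin n) ℤ (i.1 + 1)) (KRR.bottPoly j n) = KRR.bottSym j n by
      rw [← MvPolynomial.esymmAlgHom_apply, KRR.bottPoly]
      exact congrArg Subtype.val ((MvPolynomial.esymmAlgEquiv (Fin n) ℤ (Fintype.card_fin n)).apply_symm_apply _)]
  simp [KRR.bottSym]

lemma nilpotent_of_esymm {R : Type*} [CommRing R] {n : ℕ} (w : Fin n → R)
    (h : ∀ i, 1 ≤ i → IsNilpotent (((Finset.univ : Finset (Fin n)).val.map w).esymm i)) (k : Fin n) : IsNilpotent (w k) := by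
  rw [← mem_nilradical, nilradical_eq_sInf, Submodule.mem_sInf]
  intro p hp
  haveI : Ideal.IsPrime p := hp
  have he : ∀ i, 1 ≤ i → ((Finset.univ : Finset (Fin n)).val.map fun l => Ideal.Quotient.mk p (w l)).esymm i = 0 := fun i hi => by
    rw [show (fun l => Ideal.Quotient.mk p (w l)) = Ideal.Quotient.mk p ∘ w from rfl, ← Multiset.map_map, ← LamR.map_esymm]
    exact ((h i hi).map _).eq_zero
  have hv := congrArg (Polynomial.eval (Ideal.Quotient.mk p (w k)))
    (Multiset.prod_X_sub_X_eq_sum_esymm ((Finset.univ : Finset (Fin n)).val.map fun l => Ideal.Quotient.mk p (w l)))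
  rw [Polynomial.eval_multiset_prod, Multiset.prod_eq_zero (Multiset.mem_map.2 ⟨_, Multiset.mem_map.2 ⟨_, Multiset.mem_map.2
      ⟨k, Finset.mem_univ k, rfl⟩, rfl⟩, by simp⟩),
    Polynomial.eval_finsetSum, sum_eq_single_of_mem 0 (by simp) fun i _ hi => by rw [he i (Nat.one_le_iff_ne_zero.2 hi)]; simp] at hv
  rw [← Ideal.Quotient.eq_zero_iff_mem]
  refine eq_zero_of_pow_eq_zero (n := n) ?_
  simpa [esymm_zero'] using hv.symm

end Gen

variable {K : Type v} [CommRing K] [LambdaOps K] {P : PosStructure K}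

variable (P) in
/-- `ψ^j` as a ring endomorphism -/
def adamsRH (hK : HasSplitting K P) (j : ℕ) : K →+* K :=
  RingHom.mk' ⟨⟨adams P j, adams_one j⟩, adams_mul hK j⟩ (adams_add P j)

lemma adamsRH_apply (hK : HasSplitting K P) (j : ℕ) (x : K) : adamsRH P hK j x = adams P j x := rfl

section Ext

variable (hK : HasSplitting K P) {e : K} (he : e ∈ P.pos) {r : ℕ} (hr : P.aug e = r + 1)
    {inst : LambdaOps (AdjoinRoot (KRR.extPoly P e))} {Pe : @PosStructure _ _ inst}
    (hext : @IsExtension K _ _ _ _ inst P Pe (AdjoinRoot.of (KRR.extPoly P e)))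
    (hline : @PosStructure.IsLine _ _ inst Pe (AdjoinRoot.root (KRR.extPoly P e)))
    (hsplit : @HasSplitting _ _ inst Pe) (hnil : ∀ z, Pe.aug z = 0 → IsNilpotent z)
    {linv : AdjoinRoot (KRR.extPoly P e)} (hlinv : linv * AdjoinRoot.root (KRR.extPoly P e) = 1)

include hext in
lemma isNilpotent_aug_zero {N : ℕ} (hN : @gammaFiltration _ _ inst Pe N = ⊥) (z : AdjoinRoot (KRR.extPoly P e))
    (hz : Pe.aug z = 0) : IsNilpotent z := by
  letI := inst
  have h1 : z ∈ gammaFiltration Pe 1 := gamma_one z ▸ gamma_mem Pe hz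
  have hp : ∀ m, z ^ m ∈ gammaFiltration Pe m := fun m => by
    induction m with
    | zero => exact mem_gammaFiltration_zero Pe _
    | succ m ih => rw [pow_succ]; exact mul_mem_gammaFiltration Pe ih h1
  exact ⟨N, by simpa [hN] using hp N⟩

include hline hsplit hlinv in
/-- `λ^i (x ℓ⁻¹) ℓ^i = λ^i x` -/
lemma lam_mul_linv (x : AdjoinRoot (KRR.extPoly P e)) (i : ℕ) :
    @LambdaOps.lam _ _ inst i (x * linv) * AdjoinRoot.root (KRR.extPoly P e) ^ i = @LambdaOps.lam _ _ inst i x := by
  letI := inst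
  set ℓ := AdjoinRoot.root (KRR.extPoly P e)
  obtain ⟨c1, c2, h1, h2, h3⟩ := Pe.exists_sub (x * linv)
  obtain ⟨M, h, hh, hs⟩ := exists_splitting hsplit [c1, c2] (by simp [h1, h2])
  obtain ⟨s, hs1, hs2⟩ := hs _ List.mem_cons_self
  obtain ⟨t, ht1, ht2⟩ := hs _ (List.mem_cons_of_mem _ List.mem_cons_self)
  apply hh.injective
  have hl : M.posStr.IsLine (h ℓ) := isLine_map hh hline
  let H : AddSubgroup M.carrier :=
    { carrier := {z | lamSeries (z * h ℓ) = PowerSeries.rescale (h ℓ) (lamSeries z)}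
      zero_mem' := by simp
      add_mem' := fun {a b} ha hb => by
        show lamSeries ((a + b) * h ℓ) = _
        rw [add_mul, lamSeries_add, lamSeries_add, map_mul, ha, hb]
      neg_mem' := fun {a} ha => by
        show lamSeries (-a * h ℓ) = _
        apply (isUnit_lamSeries (a * h ℓ)).mul_left_cancel
        rw [← lamSeries_add]
        conv_rhs => rw [ha, ← map_mul, ← lamSeries_add, add_neg_cancel]
        simp }
  have hline' : ∀ v, M.posStr.IsLine v → v ∈ H := fun v hv => by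
    show lamSeries (v * h ℓ) = _
    rw [lamSeries_thin (lam_line M.posStr hv), lamSeries_thin (lam_line M.posStr (isLine_mul M.posStr hv hl))]
    ext m
    rw [PowerSeries.coeff_rescale, map_add, map_add, PowerSeries.coeff_C_mul, PowerSeries.coeff_C_mul,
      PowerSeries.coeff_one, PowerSeries.coeff_X]
    rcases m with - | - | m <;> simp [mul_comm]
  have hmem : h (x * linv) ∈ H := by
    rw [h3, map_sub, ← hs2, ← ht2]
    exact sub_mem (AddSubgroup.multiset_sum_mem _ _ fun u hu => hline' u (hs1 u hu))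
      (AddSubgroup.multiset_sum_mem _ _ fun u hu => hline' u (ht1 u hu))
  have := congrArg (PowerSeries.coeff i) (show lamSeries (h (x * linv) * h ℓ) = _ from hmem)
  rw [PowerSeries.coeff_rescale, coeff_lamSeries, coeff_lamSeries, ← map_mul, mul_assoc, hlinv, mul_one] at this
  rw [map_mul, map_pow, hh.isLambdaHom, hh.isLambdaHom, this, mul_comm]

include he hr hline hext hlinv in
lemma aug_e_linv : Pe.aug (AdjoinRoot.of (KRR.extPoly P e) e * linv) = r + 1 := by
  letI := inst
  have h := congrArg Pe.aug hlinv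
  rw [map_mul, map_one, hline.2, mul_one] at h
  rw [map_mul, hext.aug_comp, h, mul_one, hr]

include hK he hr hline hext hsplit hlinv in
lemma aug_bott (j : ℕ) : Pe.aug (@KRR.bott _ _ inst Pe j (AdjoinRoot.of (KRR.extPoly P e) e * linv)) = (j : ℤ) ^ (r + 1) := by
  letI := inst
  have hn : (P.aug e).toNat = r + 1 := by omega
  rw [bott_eq Pe j _ (n := r + 1) (by rw [aug_e_linv he hr hext hline hlinv]; omega), ringHom_aeval_fin]
  have hval : (fun i : Fin (r + 1) => Pe.aug (LambdaOps.lam (i.1 + 1) (AdjoinRoot.of (KRR.extPoly P e) e * linv))) =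
      fun i : Fin (r + 1) => ((Finset.univ : Finset (Fin (r + 1))).val.map fun _ => (1 : ℤ)).esymm (i.1 + 1) := funext fun i => by
    have h := congrArg Pe.aug (lam_mul_linv hline hsplit hlinv (AdjoinRoot.of (KRR.extPoly P e) e) (i.1 + 1))
    rw [map_mul, map_pow, hline.2, one_pow, mul_one, ← hext.isLambdaHom, hext.aug_comp, LamR.aug_lam hK he, hn] at h
    rw [h, Finset.esymm_map_val]
    simp
  rw [hval, aeval_bottPoly]
  simp

include hK he hr hline hext hsplit hnil hlinv in
lemma isUnit_one_tmul_bott (j : ℕ) (Z : Type) [CommRing Z] [IsLocalization.Away (j : ℤ) Z] :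
    IsUnit ((1 : Z) ⊗ₜ[ℤ] @KRR.bott _ _ inst Pe j (AdjoinRoot.of (KRR.extPoly P e) e * linv)) := by
  letI := inst
  set θ := KRR.bott Pe j (AdjoinRoot.of (KRR.extPoly P e) e * linv)
  have hnil : IsNilpotent (θ - ((j : ℤ) ^ (r + 1) : ℤ)) :=
    hnil _ (by rw [map_sub, map_intCast, aug_bott hK he hr hext hline hsplit hlinv, Int.cast_id, sub_self])
  have h := hnil.map (Algebra.TensorProduct.includeRight : AdjoinRoot (KRR.extPoly P e) →ₐ[ℤ] Z ⊗[ℤ] _)
  rw [map_sub, map_intCast, Algebra.TensorProduct.includeRight_apply] at h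
  have hu : IsUnit (((j : ℤ) ^ (r + 1) : ℤ) : Z ⊗[ℤ] AdjoinRoot (KRR.extPoly P e)) := by
    rw [Int.cast_pow]
    refine IsUnit.pow _ ?_
    have hj : IsUnit (algebraMap ℤ (Z) (j : ℤ)) := IsLocalization.Away.algebraMap_isUnit _
    simpa using hj.map (algebraMap (Z) (Z ⊗[ℤ] AdjoinRoot (KRR.extPoly P e)))
  have := h.isUnit_add_left_of_commute hu (Commute.all _ _)
  rwa [add_sub_cancel] at this

include hK he hr hline hext hsplit hnil hlinv in
/-- the integral form of the formula -/
lemma adams_rr_integral (f : AdjoinRoot (KRR.extPoly P e) →ₗ[K] K)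
    (hf : ∀ i : ℕ, i ≤ r → f (AdjoinRoot.root (KRR.extPoly P e) ^ i) = KRR.sigma i e)
    {j : ℕ} (hj : 1 ≤ j) {z : AdjoinRoot (KRR.extPoly P e)} {M : ℕ}
    (hz : z * @KRR.bott _ _ inst Pe j (AdjoinRoot.of (KRR.extPoly P e) e * linv) = (j : AdjoinRoot (KRR.extPoly P e)) ^ M)
    (x : AdjoinRoot (KRR.extPoly P e)) :
    ∃ T : ℕ, (j : K) ^ T * f ((j : AdjoinRoot (KRR.extPoly P e)) * z * @adams _ _ inst Pe j x) =
      (j : K) ^ T * ((j : K) ^ M * adams P j (f x)) := by
  classical
  letI := inst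
  haveI : Nontrivial K := P.aug.domain_nontrivial
  have hn : (P.aug e).toNat = r + 1 := by omega
  obtain ⟨L, g, hg, hsp⟩ := exists_splitting hK [e] (by simp [he])
  obtain ⟨s, hs1, hs2⟩ := hsp e (by simp)
  have hcard : s.card = r + 1 := by rw [← hn, ← hg.aug_comp, ← hs2, card_eq_aug hs1, Int.toNat_natCast]
  obtain ⟨u, hu⟩ := exists_eq_map_univ s hcard
  have hul : ∀ i, L.posStr.IsLine (u i) := fun i => hs1 _ (hu ▸ Multiset.mem_map_of_mem u (Finset.mem_univ i))
  -- `u - 1` is nilpotent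
  have hnilK : ∀ y : K, P.aug y = 0 → IsNilpotent y := fun y hy =>
    (IsNilpotent.map_iff hext.injective).1 (hnil _ (by rw [hext.aug_comp, hy]))
  have hunil : ∀ k, IsNilpotent (u k - 1) := by
    refine nilpotent_of_esymm _ fun i hi => ?_
    have hgam : g (gamma i (e - ((r + 1 : ℕ) : K))) = ((Finset.univ : Finset (Fin (r + 1))).val.map fun k => u k - 1).esymm i := by
      rw [map_gamma hg.isLambdaHom, map_sub, map_natCast, ← hs2, ← gamma_multiset_sum]
      · congr 1
        rw [hu, Multiset.sum_map_sub]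
        simp [add_comm]
      · intro w hw
        obtain ⟨k, _, rfl⟩ := Multiset.mem_map.1 hw
        exact gamma_thin_sub_one' (lam_one_pos L.posStr) (lam_line L.posStr (hul k))
    rw [← hgam]
    refine (hnilK _ ?_).map g
    have := (gamma_aug_mem hK (z := e - ((r + 1 : ℕ) : K)) (by rw [map_sub, map_natCast, hr]; simp) i).1 hi
    exact this
  -- localize at `j`
  let L' := Localization.Away (j : L.carrier)
  let G : K →+* L' := (algebraMap L.carrier L').comp g
  let a : Fin (r + 1) → L' := fun k => algebraMap L.carrier L' (u k)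
  have hju : IsUnit (j : L') := by
    rw [← map_natCast (algebraMap L.carrier L')]; exact IsLocalization.Away.algebraMap_isUnit _
  rcases subsingleton_or_nontrivial L' with hsub | hnt
  · obtain ⟨⟨_, T, rfl⟩, hT⟩ := (IsLocalization.eq_iff_exists (Submonoid.powers (j : L.carrier)) L').1
      (Subsingleton.elim (algebraMap L.carrier L' 1) (algebraMap L.carrier L' 0))
    simp only [mul_one, mul_zero] at hT
    have : (j : K) ^ T = 0 := hg.injective (by simpa using hT)
    exact ⟨T, by rw [this, zero_mul, zero_mul]⟩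
  have hnila : ∀ k, IsNilpotent (a k - 1) := fun k => by simpa [a] using (hunil k).map (algebraMap L.carrier L')
  have hau : ∀ k, IsUnit (a k) := fun k => by simpa using (hnila k).isUnit_add_one
  have hB : ∀ m, IsUnit ((Bp j a).eval (a m)) := fun m => by
    rw [eval_Bp]
    refine Finset.prod_induction _ IsUnit (fun _ _ => IsUnit.mul) isUnit_one fun k _ => ?_
    have hnil : IsNilpotent ((∑ i ∈ range j, a m ^ i * a k ^ (j - 1 - i)) - (j : L')) := by
      rw [← mem_nilradical, ← Ideal.Quotient.eq_zero_iff_mem]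
      have h1 : ∀ l, Ideal.Quotient.mk (nilradical L') (a l) = 1 := fun l => by
        rw [← map_one (Ideal.Quotient.mk (nilradical L')), Ideal.Quotient.eq]
        exact mem_nilradical.2 (hnila l)
      simp [h1]
    have := hnil.isUnit_add_left_of_commute hju (Commute.all _ _)
    rwa [add_sub_cancel] at this
  -- the polynomial and its powers
  have hq : (KRR.extPoly P e).map G = qq a := by
    rw [show (KRR.extPoly P e).map G = ((KRR.extPoly P e).map g).map (algebraMap L.carrier L') from (Polynomial.map_map _ _ _).symm,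
      extPoly_map_splitting hg hs1 hs2, hu, Multiset.map_map]
    show (∏ k, (Polynomial.X - Polynomial.C (u k))).map (algebraMap L.carrier L') = _
    simp [qq, Polynomial.map_prod, a]
  have hlam : ∀ i, G (LambdaOps.lam i e) = ((Finset.univ : Finset (Fin (r + 1))).val.map a).esymm i := fun i => by
    show algebraMap L.carrier L' (g (LambdaOps.lam i e)) = _
    rw [hg.isLambdaHom, ← hs2, lam_multiset_sum _ (fun w hw => lam_line L.posStr (hs1 w hw)), LamR.map_esymm, hu,
      Multiset.map_map]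
    rfl
  have hψlam : ∀ i, G (adams P j (LambdaOps.lam i e)) =
      ((Finset.univ : Finset (Fin (r + 1))).val.map fun k => a k ^ j).esymm i := fun i => by
    show algebraMap L.carrier L' (g (adams P j (LambdaOps.lam i e))) = _
    rw [map_adams hg, hg.isLambdaHom, ← hs2, lam_multiset_sum _ (fun w hw => lam_line L.posStr (hs1 w hw)), hu,
      Finset.esymm_map_val, ← adamsHom_apply, map_sum, map_sum, Finset.esymm_map_val]
    refine sum_congr rfl fun T _ => ?_
    have hl : L.posStr.IsLine (∏ k ∈ T, u k) :=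
      Finset.prod_induction u L.posStr.IsLine (fun _ _ => isLine_mul L.posStr) (isLine_one L.posStr) fun k _ => hul k
    rw [adamsHom_apply, adams_line L.posStr hl, ← prod_pow, map_prod]
    simp [a]
  have hqq : ∀ b : Fin (r + 1) → L', qq b = ∑ k ∈ range (r + 1 + 1),
      Polynomial.C ((-1) ^ k * ((Finset.univ : Finset (Fin (r + 1))).val.map b).esymm k) * Polynomial.X ^ (r + 1 - k) := fun b => by
    have h := Multiset.prod_X_sub_X_eq_sum_esymm ((Finset.univ : Finset (Fin (r + 1))).val.map b)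
    rw [Multiset.map_map, Multiset.card_map] at h
    simp only [Finset.card_val, Finset.card_univ, Fintype.card_fin] at h
    refine h.trans (sum_congr rfl fun k _ => ?_)
    simp [mul_assoc]
  have hz' : ∀ k, r + 1 < k → ∀ b : Fin (r + 1) → L', (-1) ^ k * ((Finset.univ : Finset (Fin (r + 1))).val.map b).esymm k = 0 :=
    fun k hk b => by rw [esymm_eq_zero_of_card_lt (by simp; omega), mul_zero]
  have hσ : ∀ i, res r (qq a) (Polynomial.X ^ (r + i)) = G (KRR.sigma i e) := by
    refine res_pow_of_rec a _ (hqq a) (by simp [esymm_zero']) (fun k hk => hz' k hk a) _ fun i => ?_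
    have h := congrArg G (sum_lam_mul_sigma e i)
    rw [map_sum, apply_ite G, map_one, map_zero] at h
    rw [← h]
    exact sum_congr rfl fun k _ => by rw [map_mul, map_mul, map_pow, map_neg, map_one, hlam]
  have hψσ : ∀ i, res r (qq fun k => a k ^ j) (Polynomial.X ^ (r + i)) = G (adams P j (KRR.sigma i e)) := by
    refine res_pow_of_rec _ _ (hqq _) (by simp [esymm_zero']) (fun k hk => hz' k hk _) _ fun i => ?_
    have h := congrArg (G.comp (adamsRH P hK j)) (sum_lam_mul_sigma e i)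
    rw [map_sum, apply_ite (G.comp (adamsRH P hK j)), map_one, map_zero] at h
    rw [← h]
    exact sum_congr rfl fun k _ => by
      rw [map_mul, map_mul, map_pow, map_neg, map_one]
      show _ = (-1) ^ k * G (adams P j (LambdaOps.lam k e)) * G (adams P j (KRR.sigma (i - k) e))
      rw [hψlam]
  have hfun : ∀ p : Polynomial K, G (f (AdjoinRoot.mk (KRR.extPoly P e) p)) = res r (qq a) (Polynomial.X ^ r * p.map G) := by
    intro p
    induction p using Polynomial.induction_on' with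
    | add p q hp hq' => rw [map_add, map_add, map_add, hp, hq', Polynomial.map_add, mul_add, res_add]
    | monomial i b =>
      rw [← Polynomial.C_mul_X_pow_eq_monomial, map_mul, map_pow, AdjoinRoot.mk_C, AdjoinRoot.mk_X,
        ← AdjoinRoot.algebraMap_eq, ← Algebra.smul_def, map_smul, smul_eq_mul, map_mul,
        show f (AdjoinRoot.root (KRR.extPoly P e) ^ i) = KRR.sigma i e from functional_pow hr f hf he i,
        Polynomial.map_mul, Polynomial.map_C, Polynomial.map_pow, Polynomial.map_X, mul_left_comm, ← pow_add, res_C_mul, hσ]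
  -- the image of `θ`
  let Φ : AdjoinRoot (KRR.extPoly P e) →+* AdjoinRoot (qq a) :=
    AdjoinRoot.lift ((AdjoinRoot.of (qq a)).comp G) (AdjoinRoot.root (qq a)) (by
      rw [← Polynomial.eval₂_map, hq, AdjoinRoot.eval₂_root])
  have hΦmk : ∀ p : Polynomial K, Φ (AdjoinRoot.mk (KRR.extPoly P e) p) = AdjoinRoot.mk (qq a) (p.map G) := fun p => by
    show AdjoinRoot.lift _ _ _ (AdjoinRoot.mk _ p) = _
    rw [AdjoinRoot.lift_mk, ← Polynomial.eval₂_map]
    exact AdjoinRoot.aeval_eq _
  have hΦof : ∀ b, Φ (AdjoinRoot.of (KRR.extPoly P e) b) = AdjoinRoot.of (qq a) (G b) := fun b => AdjoinRoot.lift_of _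
  have hΦroot : Φ (AdjoinRoot.root (KRR.extPoly P e)) = AdjoinRoot.root (qq a) := AdjoinRoot.lift_root _
  set ρ := AdjoinRoot.root (qq a) with hρ
  set ρi := Φ linv with hρi
  have hρinv : ρi * ρ = 1 := by rw [hρi, ← hΦroot, ← map_mul, hlinv, map_one]
  set b : Fin (r + 1) → AdjoinRoot (qq a) := fun k => AdjoinRoot.of (qq a) (a k) * ρi with hb
  have hθ : Φ (KRR.bott Pe j (AdjoinRoot.of (KRR.extPoly P e) e * linv)) = ∏ k, ∑ l ∈ range j, b k ^ l := by
    rw [bott_eq Pe j _ (n := r + 1) (by rw [aug_e_linv he hr hext hline hlinv]; omega), ringHom_aeval_fin, ← aeval_bottPoly]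
    congr 2
    funext i
    have h := congrArg Φ (lam_mul_linv hline hsplit hlinv (AdjoinRoot.of (KRR.extPoly P e) e) (i.1 + 1))
    rw [map_mul, map_pow, hΦroot, ← hext.isLambdaHom, hΦof, hlam] at h
    rw [hb, show (fun k => AdjoinRoot.of (qq a) (a k) * ρi) = (fun t => t * ρi) ∘ (AdjoinRoot.of (qq a) ∘ a) from rfl,
      ← Multiset.map_map, esymm_map_mul_right, ← Multiset.map_map, ← LamR.map_esymm, ← h, mul_assoc, ← mul_pow,
      mul_comm ρ ρi, hρinv, one_pow, mul_one]
  have hBθ : AdjoinRoot.mk (qq a) (Bp j a) = (∏ k, ∑ l ∈ range j, b k ^ l) * ρ ^ ((j - 1) * (r + 1)) := by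
    have hpow : ρ ^ ((j - 1) * (r + 1)) = ∏ _k : Fin (r + 1), ρ ^ (j - 1) := by
      rw [prod_const, Finset.card_univ, Fintype.card_fin, ← pow_mul]
    rw [hpow, ← prod_mul_distrib, Bp, map_prod]
    refine prod_congr rfl fun k _ => ?_
    rw [map_sum, sum_mul, ← sum_range_reflect]
    refine sum_congr rfl fun l hl => ?_
    rw [mem_range] at hl
    rw [map_mul, map_pow, map_pow, AdjoinRoot.mk_X, AdjoinRoot.mk_C, ← hρ, hb,
      show j - 1 - (j - 1 - l) = l by omega, mul_pow,
      show ρ ^ (j - 1) = ρ ^ l * ρ ^ (j - 1 - l) by rw [← pow_add]; congr 1; omega, mul_assoc, ← mul_assoc (ρi ^ l),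
      ← mul_pow, hρinv, one_pow, one_mul, mul_comm]
  -- the key evaluation
  obtain ⟨pz, rfl⟩ := AdjoinRoot.mk_surjective z
  obtain ⟨ju, hju'⟩ := hju
  have key : ∀ i, G (f ((j : AdjoinRoot (KRR.extPoly P e)) * AdjoinRoot.mk _ pz * AdjoinRoot.root _ ^ (i * j))) =
      (j : L') ^ M * G (adams P j (KRR.sigma i e)) := by
    intro i
    rw [show (j : AdjoinRoot (KRR.extPoly P e)) * AdjoinRoot.mk _ pz * AdjoinRoot.root _ ^ (i * j) =
      AdjoinRoot.mk (KRR.extPoly P e) (Polynomial.C (j : K) * pz * Polynomial.X ^ (i * j)) by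
        simp, hfun]
    set g0 := Polynomial.X ^ r * (Polynomial.C (j : K) * pz * Polynomial.X ^ (i * j)).map G with hg0
    have hdiv : qq a ∣ Polynomial.C (((ju ^ M)⁻¹ : L'ˣ) : L') * g0 * Bp j a -
        Polynomial.C (j : L') * Polynomial.X ^ (j - 1) * (Polynomial.X ^ j) ^ (r + i) := by
      rw [← AdjoinRoot.mk_eq_zero, map_sub, sub_eq_zero]
      simp only [map_mul, map_pow, hg0, Polynomial.map_mul, Polynomial.map_pow, Polynomial.map_X, Polynomial.map_C,
        AdjoinRoot.mk_X, AdjoinRoot.mk_C, map_natCast, ← hΦmk, ← hρ]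
      rw [hBθ, ← hθ, show AdjoinRoot.of (qq a) (j : L') = (j : AdjoinRoot (qq a)) from map_natCast (AdjoinRoot.of (qq a)) j]
      have hz2 := congrArg Φ hz
      rw [map_mul, map_pow, map_natCast] at hz2
      have hunit : AdjoinRoot.of (qq a) (((ju ^ M)⁻¹ : L'ˣ) : L') * (j : AdjoinRoot (qq a)) ^ M = 1 := by
        rw [← map_natCast (AdjoinRoot.of (qq a)), ← map_pow, ← map_mul, ← hju', ← Units.val_pow_eq_pow_val, Units.inv_mul, map_one]
      have hexp : ρ ^ r * ρ ^ (i * j) * ρ ^ ((j - 1) * (r + 1)) = ρ ^ (j - 1) * (ρ ^ j) ^ (r + i) := by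
        rw [← pow_mul, ← pow_add, ← pow_add, ← pow_add]
        congr 1
        obtain ⟨j', rfl⟩ : ∃ j', j = j' + 1 := ⟨j - 1, by omega⟩
        rw [Nat.add_sub_cancel]; ring
      linear_combination (AdjoinRoot.of (qq a) (((ju ^ M)⁻¹ : L'ˣ) : L') * (j : AdjoinRoot (qq a)) * ρ ^ r * ρ ^ (i * j) *
        ρ ^ ((j - 1) * (r + 1))) * hz2 + ((j : AdjoinRoot (qq a)) * ρ ^ r * ρ ^ (i * j) * ρ ^ ((j - 1) * (r + 1))) * hunit +
        (j : AdjoinRoot (qq a)) * hexp
    have hres := res_comp hj a ⟨ju, hju'⟩ hau hB (r + i) hdiv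
    rw [res_C_mul, hψσ] at hres
    rw [← hres, ← mul_assoc, ← hju', ← Units.val_pow_eq_pow_val, Units.mul_inv, one_mul]
  -- conclude by linearity
  have hall : G (f ((j : AdjoinRoot (KRR.extPoly P e)) * AdjoinRoot.mk _ pz * adams Pe j x)) =
      G ((j : K) ^ M * adams P j (f x)) := by
    obtain ⟨px, rfl⟩ := AdjoinRoot.mk_surjective x
    induction px using Polynomial.induction_on' with
    | add p q hp hq' =>
      simp only [map_add, adams_add, mul_add, hp, hq']
    | monomial i c =>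
      have hsm : ∀ (c : K) (y : AdjoinRoot (KRR.extPoly P e)), f (AdjoinRoot.of (KRR.extPoly P e) c * y) = c * f y := fun c y => by
        rw [← AdjoinRoot.algebraMap_eq, ← Algebra.smul_def, map_smul, smul_eq_mul]
      have e1 : adams Pe j (AdjoinRoot.mk (KRR.extPoly P e) (Polynomial.monomial i c)) =
          AdjoinRoot.of (KRR.extPoly P e) (adams P j c) * AdjoinRoot.root (KRR.extPoly P e) ^ (i * j) := by
        rw [← Polynomial.C_mul_X_pow_eq_monomial, map_mul (AdjoinRoot.mk _), map_pow (AdjoinRoot.mk _), AdjoinRoot.mk_C,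
          AdjoinRoot.mk_X, adams_mul hsplit, ← map_adams hext, adams_line Pe (isLine_pow Pe hline i), ← pow_mul]
      have e2 : f (AdjoinRoot.mk (KRR.extPoly P e) (Polynomial.monomial i c)) = c * KRR.sigma i e := by
        rw [← Polynomial.C_mul_X_pow_eq_monomial, map_mul (AdjoinRoot.mk _), map_pow (AdjoinRoot.mk _), AdjoinRoot.mk_C,
          AdjoinRoot.mk_X, hsm]
        exact congrArg _ (functional_pow hr f hf he i)
      rw [e1, e2, mul_left_comm, hsm, adams_mul hK, map_mul G, key, map_mul G, map_mul G, map_pow G, map_natCast G]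
      ring
  obtain ⟨⟨_, T, rfl⟩, hT⟩ := (IsLocalization.eq_iff_exists (Submonoid.powers (j : L.carrier)) L').1 hall
  refine ⟨T, hg.injective ?_⟩
  have hT' : (j : L.carrier) ^ T * g (f ((j : AdjoinRoot (KRR.extPoly P e)) * AdjoinRoot.mk _ pz * adams Pe j x)) =
      (j : L.carrier) ^ T * g ((j : K) ^ M * adams P j (f x)) := hT
  rw [map_mul g ((j : K) ^ T), map_mul g ((j : K) ^ T), map_pow g, map_natCast g]
  exact hT'

include hK he hr hline hext hsplit hnil hlinv in
theorem adams_rr (f : AdjoinRoot (KRR.extPoly P e) →ₗ[K] K)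
    (hf : ∀ i : ℕ, i ≤ r → f (AdjoinRoot.root (KRR.extPoly P e) ^ i) = KRR.sigma i e)
    {j : ℕ} (hj : 1 ≤ j) (Z : Type) [CommRing Z] [IsLocalization.Away (j : ℤ) Z] :
    (∃ w : Z ⊗[ℤ] AdjoinRoot (KRR.extPoly P e),
      w * ((1 : Z) ⊗ₜ[ℤ] @KRR.bott _ _ inst Pe j (AdjoinRoot.of (KRR.extPoly P e) e * linv)) = 1) ∧
    ∀ w : Z ⊗[ℤ] AdjoinRoot (KRR.extPoly P e),
      w * ((1 : Z) ⊗ₜ[ℤ] @KRR.bott _ _ inst Pe j (AdjoinRoot.of (KRR.extPoly P e) e * linv)) = 1 →
      ∀ x : AdjoinRoot (KRR.extPoly P e),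
        (1 : Z) ⊗ₜ[ℤ] adams P j (f x) =
          LinearMap.lTensor (Z) f.toAddMonoidHom.toIntLinearMap
            ((j : Z ⊗[ℤ] AdjoinRoot (KRR.extPoly P e)) * w *
              ((1 : Z) ⊗ₜ[ℤ] @adams _ _ inst Pe j x)) := by
  letI := inst
  set θ := KRR.bott Pe j (AdjoinRoot.of (KRR.extPoly P e) e * linv)
  refine ⟨(isUnit_one_tmul_bott hK he hr hext hline hsplit hnil hlinv j Z).exists_left_inv, fun w hw x => ?_⟩
  have hpow : ∀ m : ℕ, IsUnit (algebraMap ℤ Z ((j : ℤ) ^ m)) := fun m => by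
    rw [map_pow]; exact (IsLocalization.Away.algebraMap_isUnit _).pow m
  obtain ⟨⟨z, ⟨c, M1, hM1⟩⟩, hwz⟩ :=
    IsLocalizedModule.surj (Submonoid.powers (j : ℤ)) (TensorProduct.mk ℤ Z (AdjoinRoot (KRR.extPoly P e)) 1) w
  simp only at hM1
  subst hM1
  have hwz' : ((j : ℤ) ^ M1) • w = (1 : Z) ⊗ₜ[ℤ] z := hwz
  obtain ⟨⟨_, M2, rfl⟩, hM2⟩ := (IsLocalizedModule.eq_iff_exists (Submonoid.powers (j : ℤ)) (TensorProduct.mk ℤ Z (AdjoinRoot (KRR.extPoly P e)) 1)
    (x₁ := z * θ) (x₂ := ((j : ℤ) ^ M1) • (1 : (AdjoinRoot (KRR.extPoly P e))))).1 (by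
      show (1 : Z) ⊗ₜ[ℤ] (z * θ) = (1 : Z) ⊗ₜ[ℤ] (((j : ℤ) ^ M1) • (1 : (AdjoinRoot (KRR.extPoly P e))))
      rw [tmul_smul, ← Algebra.TensorProduct.one_def, ← hw, ← smul_mul_assoc, hwz', Algebra.TensorProduct.tmul_mul_tmul, one_mul])
  replace hM2 : ((j : ℤ) ^ M2) • (z * θ) = ((j : ℤ) ^ M2) • (((j : ℤ) ^ M1) • (1 : (AdjoinRoot (KRR.extPoly P e)))) := hM2
  have hz : ((j : (AdjoinRoot (KRR.extPoly P e))) ^ M2 * z) * θ = (j : (AdjoinRoot (KRR.extPoly P e))) ^ (M2 + M1) := by
    simp only [zsmul_eq_mul, Int.cast_pow, Int.cast_natCast, mul_one] at hM2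
    rw [mul_assoc, hM2, pow_add]
  obtain ⟨T, hT⟩ := adams_rr_integral hK he hr hext hline hsplit hnil hlinv f hf hj hz x
  have hinj : ∀ u v : Z ⊗[ℤ] K, ((j : ℤ) ^ (T + (M2 + M1))) • u = ((j : ℤ) ^ (T + (M2 + M1))) • v → u = v := fun u v h => by
    rw [← algebraMap_smul Z ((j : ℤ) ^ (T + (M2 + M1))) u, ← algebraMap_smul Z ((j : ℤ) ^ (T + (M2 + M1))) v] at h
    exact (hpow _).smul_left_cancel.1 h
  apply hinj
  rw [← LinearMap.map_smul, ← smul_mul_assoc, ← mul_smul_comm, pow_add, pow_add]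
  simp only [mul_smul, hwz', ← tmul_smul]
  rw [show (j : Z ⊗[ℤ] (AdjoinRoot (KRR.extPoly P e))) = (1 : Z) ⊗ₜ[ℤ] (j : (AdjoinRoot (KRR.extPoly P e))) from
      (map_natCast (Algebra.TensorProduct.includeRight : (AdjoinRoot (KRR.extPoly P e)) →ₐ[ℤ] Z ⊗[ℤ] (AdjoinRoot (KRR.extPoly P e))) j).symm,
    Algebra.TensorProduct.tmul_mul_tmul, Algebra.TensorProduct.tmul_mul_tmul, LinearMap.lTensor_tmul, one_mul, one_mul]
  congr 1
  show _ = f _
  have e2 : (j : (AdjoinRoot (KRR.extPoly P e))) * ((j : ℤ) ^ T • (j : ℤ) ^ M2 • z) * adams Pe j x =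
      AdjoinRoot.of (KRR.extPoly P e) ((j : K) ^ T) * ((j : (AdjoinRoot (KRR.extPoly P e))) * ((j : (AdjoinRoot (KRR.extPoly P e))) ^ M2 * z) * adams Pe j x) := by
    simp only [zsmul_eq_mul, Int.cast_pow, Int.cast_natCast, map_pow, map_natCast]; ring
  rw [e2, ← AdjoinRoot.algebraMap_eq, ← Algebra.smul_def, map_smul, smul_eq_mul, hT]
  simp only [zsmul_eq_mul, Int.cast_mul, Int.cast_pow, Int.cast_natCast]
  ring

end Ext

end Groth.Agent.KRRLam
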