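import Groth.Agent.KRRLam.Special
import Mathlib.RingTheory.Polynomial.Vieta

/-!
# The special λ-ring `S[T]`, `T` thin, and truncation of the universal product polynomials
-/

open Finset

noncomputable section

namespace Groth.Agent.KRRLam

open LambdaRing LamR

section Poly

variable (S : Type*) [CommRing S] [LambdaOps S]

/-- the candidate λ-series of a polynomial -/
def polySer (N : ℕ) (z : Polynomial S) : PowerSeries (Polynomial S) :=
  ∏ k ∈ range N, PowerSeries.rescale ((Polynomial.X : Polynomial S) ^ k) (PowerSeries.map Polynomial.C (lamSeries (z.coeff k)))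

lemma polySer_eq {N : ℕ} {z : Polynomial S} (h : z.natDegree < N) : polySer S N z = polySer S (z.natDegree + 1) z := by
  refine (prod_subset (s₁ := range (z.natDegree + 1)) (fun k hk => ?_) fun k _ hk => ?_).symm
  · rw [mem_range] at hk ⊢; omega
  · rw [mem_range] at hk
    rw [Polynomial.coeff_eq_zero_of_natDegree_lt (by omega), lamSeries_zero, map_one, map_one]

lemma constantCoeff_rescale' {R : Type*} [CommRing R] (a : R) (f : PowerSeries R) :
    PowerSeries.constantCoeff (PowerSeries.rescale a f) = PowerSeries.constantCoeff f := by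
  rw [← PowerSeries.coeff_zero_eq_constantCoeff_apply, PowerSeries.coeff_rescale, pow_zero, one_mul,
    PowerSeries.coeff_zero_eq_constantCoeff_apply]

lemma constantCoeff_polySer (N : ℕ) (z : Polynomial S) : PowerSeries.constantCoeff (polySer S N z) = 1 := by
  rw [polySer, map_prod]
  refine prod_eq_one fun k _ => ?_
  rw [constantCoeff_rescale', ← PowerSeries.coeff_zero_eq_constantCoeff_apply, PowerSeries.coeff_map,
    coeff_lamSeries, LambdaOps.lam_zero, map_one]

lemma coeff_one_prod {R : Type*} [CommRing R] {α : Type*} (s : Finset α) (f : α → PowerSeries R)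
    (hf : ∀ k ∈ s, PowerSeries.constantCoeff (f k) = 1) :
    PowerSeries.coeff 1 (∏ k ∈ s, f k) = ∑ k ∈ s, PowerSeries.coeff 1 (f k) := by
  classical
  induction s using Finset.induction_on with
  | empty => simp
  | insert a s ha ih =>
    rw [prod_insert ha, sum_insert ha, PowerSeries.coeff_mul, Finset.Nat.sum_antidiagonal_eq_sum_range_succ_mk,
      sum_range_succ, sum_range_succ, sum_range_zero, zero_add, Nat.sub_self, Nat.sub_zero,
      ih fun k hk => hf k (mem_insert_of_mem hk), PowerSeries.coeff_zero_eq_constantCoeff_apply,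
      PowerSeries.coeff_zero_eq_constantCoeff_apply, map_prod, prod_eq_one fun k hk => hf k (mem_insert_of_mem hk),
      hf a (mem_insert_self a s)]
    ring

/-- λ-operations on `S[T]` -/
@[reducible] def lamPoly : LambdaOps (Polynomial S) where
  lam n z := PowerSeries.coeff n (polySer S (z.natDegree + 1) z)
  lam_zero z := by rw [PowerSeries.coeff_zero_eq_constantCoeff_apply, constantCoeff_polySer]
  lam_one z := by
    rw [polySer, coeff_one_prod _ _ (fun k _ => by
      rw [constantCoeff_rescale', ← PowerSeries.coeff_zero_eq_constantCoeff_apply, PowerSeries.coeff_map,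
        coeff_lamSeries, LambdaOps.lam_zero, map_one])]
    conv_rhs => rw [Polynomial.as_sum_range_C_mul_X_pow z]
    refine sum_congr rfl fun k _ => ?_
    rw [PowerSeries.coeff_rescale, pow_one, PowerSeries.coeff_map, coeff_lamSeries, LambdaOps.lam_one, mul_comm]
  lam_add n x y := by
    set N := max (max x.natDegree y.natDegree) (x + y).natDegree + 1
    rw [← polySer_eq S (show (x + y).natDegree < N by omega)]
    have : polySer S N (x + y) = polySer S N x * polySer S N y := by
      rw [polySer, polySer, polySer, ← prod_mul_distrib]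
      exact prod_congr rfl fun k _ => by rw [Polynomial.coeff_add, lamSeries_add, map_mul, map_mul]
    rw [this, PowerSeries.coeff_mul, Finset.Nat.sum_antidiagonal_eq_sum_range_succ_mk]
    refine sum_congr rfl fun i _ => ?_
    rw [polySer_eq S (show x.natDegree < N by omega), polySer_eq S (show y.natDegree < N by omega)]

variable {S}

attribute [local instance] lamPoly

lemma lamSeries_poly {N : ℕ} {z : Polynomial S} (h : z.natDegree < N) : lamSeries z = polySer S N z := by
  ext1 n
  rw [coeff_lamSeries, polySer_eq S h]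
  try rfl

lemma lamSeries_C_mul_X_pow (a : S) (k : ℕ) :
    lamSeries (Polynomial.C a * Polynomial.X ^ k) =
      PowerSeries.rescale ((Polynomial.X : Polynomial S) ^ k) (PowerSeries.map Polynomial.C (lamSeries a)) := by
  rw [lamSeries_poly (N := k + 1) (Nat.lt_succ_of_le (Polynomial.natDegree_C_mul_X_pow_le a k)), polySer,
    prod_range_succ, prod_eq_one fun i hi => ?_, one_mul, Polynomial.coeff_C_mul_X_pow, if_pos rfl]
  rw [mem_range] at hi
  rw [Polynomial.coeff_C_mul_X_pow, if_neg (by omega), lamSeries_zero, map_one, map_one]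

lemma lam_C (a : S) (n : ℕ) : LambdaOps.lam n (Polynomial.C a) = Polynomial.C (LambdaOps.lam n a) := by
  rw [← coeff_lamSeries, ← mul_one (Polynomial.C a), ← pow_zero Polynomial.X, lamSeries_C_mul_X_pow, pow_zero,
    PowerSeries.rescale_one, RingHom.id_apply, PowerSeries.coeff_map, coeff_lamSeries]

lemma lam_X (h1 : ∀ j : ℕ, 2 ≤ j → LambdaOps.lam j (1 : S) = 0) (j : ℕ) (hj : 2 ≤ j) :
    LambdaOps.lam j (Polynomial.X : Polynomial S) = 0 := by
  rw [← coeff_lamSeries, ← pow_one (Polynomial.X : Polynomial S), ← one_mul (Polynomial.X ^ 1), ← map_one (Polynomial.C : S →+* _),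
    lamSeries_C_mul_X_pow, PowerSeries.coeff_rescale, PowerSeries.coeff_map, coeff_lamSeries, h1 j hj, map_zero, mul_zero]

lemma map_poly_lam {S' : Type*} [CommRing S'] [LambdaOps S'] {f : S →+* S'}
    (hf : ∀ (n : ℕ) a, f (LambdaOps.lam n a) = LambdaOps.lam n (f a)) (n : ℕ) (z : Polynomial S) :
    (LambdaOps.lam n z).map f = LambdaOps.lam n (z.map f) := by
  rw [← coeff_lamSeries, ← coeff_lamSeries n (z.map f), lamSeries_poly (Nat.lt_succ_self z.natDegree),
    lamSeries_poly (Nat.lt_succ_of_le Polynomial.natDegree_map_le), ← Polynomial.coe_mapRingHom, ← PowerSeries.coeff_map,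
    polySer, polySer, map_prod]
  refine congrArg _ (prod_congr rfl fun k _ => ?_)
  ext1 i
  rw [PowerSeries.coeff_map, PowerSeries.coeff_rescale, PowerSeries.coeff_map, coeff_lamSeries, PowerSeries.coeff_rescale,
    PowerSeries.coeff_map, coeff_lamSeries, map_mul, map_pow, map_pow, Polynomial.coe_mapRingHom, Polynomial.map_C,
    Polynomial.map_X, hf, Polynomial.coeff_map]

lemma psum_rescale {R : Type*} [CommRing R] (c : R) {f : PowerSeries R} (hf : PowerSeries.constantCoeff f = 1) (k : ℕ) :
    psum (PowerSeries.rescale c f) (k + 1) = c ^ (k + 1) * psum f (k + 1) := by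
  have hinv : (PowerSeries.rescale c f).invOfUnit 1 = PowerSeries.rescale c (f.invOfUnit 1) :=
    invOfUnit_unique (by rw [constantCoeff_rescale', hf])
      (by rw [← map_mul, PowerSeries.mul_invOfUnit f 1 (by simpa using hf), map_one])
  rw [psum, psum, derivative_rescale, hinv, mul_assoc, ← map_mul, PowerSeries.coeff_C_mul, PowerSeries.coeff_rescale]
  ring

lemma adamsOp_C_mul_X_pow (a : S) (i k : ℕ) :
    adamsOp (k + 1) (Polynomial.C a * Polynomial.X ^ i) =
      Polynomial.C (adamsOp (k + 1) a) * ((Polynomial.X : Polynomial S) ^ (k + 1)) ^ i := by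
  rw [adamsOp_eq_psum, lamSeries_C_mul_X_pow, psum_rescale _ (by
    rw [← PowerSeries.coeff_zero_eq_constantCoeff_apply, PowerSeries.coeff_map, coeff_lamSeries, LambdaOps.lam_zero, map_one]),
    ← map_psum _ (constantCoeff_lamSeries a), ← adamsOp_eq_psum, ← pow_mul, ← pow_mul, mul_comm, mul_comm i (k + 1)]

lemma adamsOp_poly (hS : IsSpecial S) (k : ℕ) (z : Polynomial S) :
    adamsOp (k + 1) z = Polynomial.eval₂RingHom (Polynomial.C.comp (adamsRingHom hS k)) (Polynomial.X ^ (k + 1)) z := by
  induction z using Polynomial.induction_on' with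
  | add p q hp hq => rw [adamsOp_add, map_add, hp, hq]
  | monomial i a =>
    rw [← Polynomial.C_mul_X_pow_eq_monomial, adamsOp_C_mul_X_pow, map_mul, map_pow, Polynomial.coe_eval₂RingHom,
      Polynomial.eval₂_C, Polynomial.eval₂_X, RingHom.comp_apply, adamsRingHom_apply]

lemma isSpecial_poly_of_htf (hS : IsSpecial S)
    (htf : ∀ (n : ℕ) (a b : S), a * ((n : S) + 1) = b * ((n : S) + 1) → a = b) : IsSpecial (Polynomial S) := by
  refine isSpecial_of_adamsOp (fun n a b h => ?_) (fun k hk => ?_) (fun k hk x y => ?_) fun k k' hk hk' x => ?_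
  · ext i
    refine htf n _ _ ?_
    have := congrArg (fun p => Polynomial.coeff p i) h
    simp only [show ((n : Polynomial S) + 1) = Polynomial.C ((n : S) + 1) by simp, Polynomial.coeff_mul_C] at this
    exact this
  · obtain ⟨j, rfl⟩ : ∃ j, k = j + 1 := ⟨k - 1, by omega⟩
    rw [adamsOp_poly hS, map_one]
  · obtain ⟨j, rfl⟩ : ∃ j, k = j + 1 := ⟨k - 1, by omega⟩
    rw [adamsOp_poly hS, adamsOp_poly hS, adamsOp_poly hS, map_mul]
  · obtain ⟨j, rfl⟩ : ∃ j, k = j + 1 := ⟨k - 1, by omega⟩
    obtain ⟨j', rfl⟩ : ∃ j', k' = j' + 1 := ⟨k' - 1, by omega⟩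
    rw [show (j + 1) * (j' + 1) = (j * j' + j + j') + 1 by ring, adamsOp_poly hS, adamsOp_poly hS, adamsOp_poly hS,
      ← RingHom.comp_apply]
    congr 1
    refine Polynomial.ringHom_ext (fun a => ?_) ?_
    · simp only [RingHom.comp_apply, Polynomial.coe_eval₂RingHom, Polynomial.eval₂_C, adamsRingHom_apply]
      rw [adamsOp_adamsOp hS, show (j * j' + j + j') + 1 = (j + 1) * (j' + 1) by ring]
    · simp only [RingHom.comp_apply, Polynomial.coe_eval₂RingHom, Polynomial.eval₂_X, Polynomial.eval₂_X_pow]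
      rw [← pow_mul]; congr 1; ring

section Free

attribute [local instance] lamV algQ lamG

/-- polynomial rings over special λ-rings are special -/
theorem isSpecial_poly (hS : IsSpecial S) : IsSpecial (Polynomial S) := by
  letI : LambdaOps ℤ := binomialLambdaOps ℤ
  have hKb : IsBinomial ℤ := fun _ _ => rfl
  have htf : ∀ (n : ℕ) (a b : GV ℤ S), a * ((n : GV ℤ S) + 1) = b * ((n : GV ℤ S) + 1) → a = b := fun n a b h => by
    refine jV_injective ℤ S (htfG n _ _ ?_)
    simpa using congrArg (jV ℤ S) h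
  let π : GV ℤ S →+* S := (evV (fun a : S => a) : GV ℤ S →ₐ[ℤ] S).toRingHom
  have hπ : ∀ (n : ℕ) v, π (LambdaOps.lam n v) = LambdaOps.lam n (π v) :=
    evV_lam _ hKb (fun n c => isLambdaAlg_int hS.lam_one_eq_zero n c) hS
  have hsurj : Function.Surjective π := fun a => ⟨MvPolynomial.X (a, 0), by
    show evV _ _ = a
    rw [evV_X, gamma_one]⟩
  exact isSpecial_of_surjective (isSpecial_poly_of_htf (isSpecial_V ℤ S) htf) (Polynomial.mapRingHom π)
    (Polynomial.map_surjective π hsurj) (map_poly_lam hπ)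

end Free

end Poly

section Trunc

open MvPolynomial

variable {a b : ℕ}

/-- generic values for `a`, resp. `b` roots -/
def esab (a b : ℕ) : ℕ ⊕ ℕ → MvPolynomial (Fin a ⊕ Fin b) ℤ :=
  Sum.elim (fun i => es ((gen a ℤ).map (rename Sum.inl)) i) (fun i => es ((gen b ℤ).map (rename Sum.inr)) i)

lemma esab_inl (i : ℕ) : esab a b (Sum.inl i) = rename Sum.inl (esymm (Fin a) ℤ (i + 1)) := by
  rw [← es_gen]; exact (map_es (rename Sum.inl : MvPolynomial (Fin a) ℤ →ₐ[ℤ] _).toRingHom (gen a ℤ) i).symm

lemma esab_inr (i : ℕ) : esab a b (Sum.inr i) = rename Sum.inr (esymm (Fin b) ℤ (i + 1)) := by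
  rw [← es_gen]; exact (map_es (rename Sum.inr : MvPolynomial (Fin b) ℤ →ₐ[ℤ] _).toRingHom (gen b ℤ) i).symm

lemma esab_injective : Function.Injective
    (aeval (fun i : Fin a ⊕ Fin b => esab a b (Sum.map Fin.val Fin.val i)) :
      MvPolynomial (Fin a ⊕ Fin b) ℤ →ₐ[ℤ] MvPolynomial (Fin a ⊕ Fin b) ℤ) := by
  let φin : MvPolynomial (Fin b) ℤ →+* MvPolynomial (Fin b) ℤ :=
    (Subalgebra.val _).toRingHom.comp (esymmAlgHom (Fin b) ℤ b).toRingHom
  have hin : Function.Injective φin := Subtype.val_injective.comp (esymmAlgHom_injective ℤ (by simp))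
  let φout : MvPolynomial (Fin a) (MvPolynomial (Fin b) ℤ) →+* MvPolynomial (Fin a) (MvPolynomial (Fin b) ℤ) :=
    (Subalgebra.val _).toRingHom.comp (esymmAlgHom (Fin a) (MvPolynomial (Fin b) ℤ) a).toRingHom
  have hout : Function.Injective φout := Subtype.val_injective.comp (esymmAlgHom_injective _ (by simp))
  let H : MvPolynomial (Fin a ⊕ Fin b) ℤ →+* MvPolynomial (Fin a ⊕ Fin b) ℤ :=
    (sumAlgEquiv ℤ (Fin a) (Fin b)).symm.toAlgHom.toRingHom.comp
      (φout.comp ((MvPolynomial.map φin).comp (sumAlgEquiv ℤ (Fin a) (Fin b)).toAlgHom.toRingHom))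
  have hH : Function.Injective H :=
    (sumAlgEquiv ℤ (Fin a) (Fin b)).symm.injective.comp
      (hout.comp ((map_injective φin hin).comp (sumAlgEquiv ℤ (Fin a) (Fin b)).injective))
  have hsy : ∀ m, (sumAlgEquiv ℤ (Fin a) (Fin b)).symm (esymm (Fin a) (MvPolynomial (Fin b) ℤ) m) =
      rename Sum.inl (esymm (Fin a) ℤ m) := fun m => by
    simp [esymm, map_sum, map_prod, sumAlgEquiv_symm_X]
  have heq : H = (aeval (fun i : Fin a ⊕ Fin b => esab a b (Sum.map Fin.val Fin.val i)) :
      MvPolynomial (Fin a ⊕ Fin b) ℤ →ₐ[ℤ] MvPolynomial (Fin a ⊕ Fin b) ℤ).toRingHom := by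
    refine MvPolynomial.ringHom_ext (fun r => by simp) fun i => ?_
    rcases i with i | i
    · simp [H, φout, φin, esab_inl, esymmAlgHom_apply, hsy]
    · have : φin (X i) = esymm (Fin b) ℤ (i + 1) := by simp [φin, esymmAlgHom_apply]
      simp only [H, φout, RingHom.coe_comp, Function.comp_apply, AlgHom.toRingHom_eq_coe, RingHom.coe_coe,
        AlgEquiv.coe_toAlgHom, sumAlgEquiv_X_inr, MvPolynomial.map_C, this, esymmAlgHom_apply, Subalgebra.coe_val,
        aeval_C, aeval_X, Sum.map_inr, esab_inr]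
      rw [MvPolynomial.algebraMap_eq, AlgEquiv.symm_apply_eq]
      exact (AlgHom.congr_fun (sumAlgEquiv_comp_rename_inr ℤ (Fin a) (Fin b)) _).symm
  intro x y hxy
  apply hH
  rw [heq]; exact hxy

/-- truncation to `a`, resp. `b` variables -/
def killab (a b : ℕ) : MvPolynomial (ℕ ⊕ ℕ) ℤ →ₐ[ℤ] MvPolynomial (Fin a ⊕ Fin b) ℤ :=
  aeval (Sum.elim (fun i => if h : i < a then X (Sum.inl ⟨i, h⟩) else 0)
    (fun i => if h : i < b then X (Sum.inr ⟨i, h⟩) else 0))

lemma aeval_killab {R : Type*} [CommRing R] [Algebra ℤ R] (u : ℕ ⊕ ℕ → R) (hu : ∀ i, a ≤ i → u (Sum.inl i) = 0)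
    (hu' : ∀ i, b ≤ i → u (Sum.inr i) = 0) (p : MvPolynomial (ℕ ⊕ ℕ) ℤ) :
    aeval (fun i : Fin a ⊕ Fin b => u (Sum.map Fin.val Fin.val i)) (killab a b p) = aeval u p := by
  rw [killab, ← AlgHom.comp_apply, comp_aeval]
  congr 2
  funext i
  rcases i with i | i
  · simp only [Sum.elim_inl]
    split_ifs with h
    · rw [aeval_X]; rfl
    · rw [map_zero, hu i (by omega)]
  · simp only [Sum.elim_inr]
    split_ifs with h
    · rw [aeval_X]; rfl
    · rw [map_zero, hu' i (by omega)]

lemma aeval_esab_killab (n : ℕ) :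
    aeval (fun i : Fin a ⊕ Fin b => esab a b (Sum.map Fin.val Fin.val i)) (killab a b (mulU n)) =
      (prodMs ((gen a ℤ).map (rename (Sum.inl : Fin a → Fin a ⊕ Fin b))) ((gen b ℤ).map (rename Sum.inr))).esymm n := by
  rw [aeval_killab (esab a b) (fun i hi => ?_) (fun i hi => ?_), esab, mulU_spec]
  · rw [esab_inl, esymm_eq_multiset_esymm, esymm_eq_zero_of_card_lt (by simp; omega), map_zero]
  · rw [esab_inr, esymm_eq_multiset_esymm, esymm_eq_zero_of_card_lt (by simp; omega), map_zero]

lemma card_prodMs {R : Type*} [CommRing R] (s t : Multiset R) : (prodMs s t).card = s.card * t.card := by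
  induction s using Multiset.induction_on with
  | empty => simp [prodMs]
  | cons x s ih =>
    rw [prodMs] at ih ⊢
    rw [Multiset.cons_bind, Multiset.card_add, Multiset.card_map, ih, Multiset.card_cons]; ring

lemma prod_prodMs {R : Type*} [CommRing R] (s t : Multiset R) :
    (prodMs s t).prod = s.prod ^ t.card * t.prod ^ s.card := by
  induction s using Multiset.induction_on with
  | empty => simp [prodMs]
  | cons x s ih =>
    rw [prodMs] at ih ⊢
    rw [Multiset.cons_bind, Multiset.prod_add, ih, Multiset.prod_map_mul, Multiset.map_const', Multiset.prod_replicate,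
      Multiset.map_id', Multiset.prod_cons, Multiset.card_cons]
    ring

lemma killab_mulU_eq_zero {n : ℕ} (hn : a * b < n) : killab a b (mulU n) = 0 := by
  apply esab_injective
  rw [aeval_esab_killab, map_zero, esymm_eq_zero_of_card_lt (by simp [card_prodMs, gen, hn])]

lemma killab_mulU_top (a b : ℕ) :
    killab (a + 1) (b + 1) (mulU ((a + 1) * (b + 1))) =
      X (Sum.inl (Fin.last a)) ^ (b + 1) * X (Sum.inr (Fin.last b)) ^ (a + 1) := by
  apply esab_injective
  rw [aeval_esab_killab, map_mul, map_pow, map_pow, aeval_X, aeval_X, Sum.map_inl, Sum.map_inr, esab_inl, esab_inr]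
  have hc : (prodMs ((gen (a + 1) ℤ).map (rename (Sum.inl : Fin (a + 1) → Fin (a + 1) ⊕ Fin (b + 1)))) ((gen (b + 1) ℤ).map (rename Sum.inr))).card =
      (a + 1) * (b + 1) := by simp [card_prodMs, gen]
  rw [← hc, show ∀ s : Multiset (MvPolynomial (Fin (a + 1) ⊕ Fin (b + 1)) ℤ), s.esymm s.card = s.prod from fun s => LamR.esymm_card s,
    prod_prodMs, Fin.val_last, Fin.val_last, esymm_eq_multiset_esymm, esymm_eq_multiset_esymm]
  have h : ∀ N, ((Finset.univ : Finset (Fin N)).val.map (X : Fin N → MvPolynomial (Fin N) ℤ)).esymm N = (gen N ℤ).prod := fun N => by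
    have := LamR.esymm_card (gen N ℤ)
    simpa [gen] using this
  rw [h, h, map_multiset_prod, map_multiset_prod, Multiset.card_map, Multiset.card_map]
  simp [gen]

variable {S : Type*} [CommRing S] [LambdaOps S]

lemma lam_mul_eq_zero (hS : IsSpecial S) {z w : S} (hz : ∀ i, a < i → LambdaOps.lam i z = 0)
    (hw : ∀ i, b < i → LambdaOps.lam i w = 0) {n : ℕ} (hn : a * b < n) : LambdaOps.lam n (z * w) = 0 := by
  rw [lam_mul_eq hS, ← aeval_killab (a := a) (b := b) _ (fun i hi => hz (i + 1) (by omega))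
    (fun i hi => hw (i + 1) (by omega)), killab_mulU_eq_zero hn, map_zero]

lemma lam_mul_top (hS : IsSpecial S) {a b : ℕ} {z w : S} (hz : ∀ i, a + 1 < i → LambdaOps.lam i z = 0)
    (hw : ∀ i, b + 1 < i → LambdaOps.lam i w = 0) :
    LambdaOps.lam ((a + 1) * (b + 1)) (z * w) =
      LambdaOps.lam (a + 1) z ^ (b + 1) * LambdaOps.lam (b + 1) w ^ (a + 1) := by
  rw [lam_mul_eq hS, ← aeval_killab (a := a + 1) (b := b + 1) _ (fun i hi => hz (i + 1) (by omega))
    (fun i hi => hw (i + 1) (by omega)), killab_mulU_top, map_mul, map_pow, map_pow, aeval_X, aeval_X]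
  rfl

end Trunc

end Groth.Agent.KRRLam
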