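import Mathlib.LinearAlgebra.Lagrange
import Mathlib.RingTheory.Localization.FractionRing
import Mathlib.RingTheory.Localization.Away.Basic
import Mathlib.RingTheory.MvPolynomial.Basic
import Mathlib.RingTheory.Coprime.Lemmas
import Mathlib.Algebra.Ring.GeomSum
import Mathlib.Tactic

/-!
# Residues along `X ↦ X^j`: `res_q (j X^{j-1} G(X^j)/B) = res_Q G` where `Q(X^j) = q·B`
-/

open Finset Polynomial

noncomputable section

namespace Groth.Agent.KRRLam

variable {R S : Type*} [CommRing R] [CommRing S]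

/-- the coefficient of `X^r` of the remainder modulo `q` -/
def res (r : ℕ) (q g : R[X]) : R := (g %ₘ q).coeff r

/-- `∏ (X - a_k)` -/
def qq {n : ℕ} (a : Fin n → R) : R[X] := ∏ k, (X - C (a k))

/-- `∏ (X^j - a_k^j)/(X - a_k)` -/
def Bp (j : ℕ) {n : ℕ} (a : Fin n → R) : R[X] := ∏ k, ∑ s ∈ range j, X ^ s * C (a k) ^ (j - 1 - s)

lemma qq_monic {n : ℕ} (a : Fin n → R) : (qq a).Monic := monic_prod_of_monic _ _ fun i _ => monic_X_sub_C _

lemma map_qq (f : R →+* S) {n : ℕ} (a : Fin n → R) : (qq a).map f = qq fun k => f (a k) := by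
  simp [qq, Polynomial.map_prod]

lemma map_Bp (f : R →+* S) (j : ℕ) {n : ℕ} (a : Fin n → R) : (Bp j a).map f = Bp j fun k => f (a k) := by
  simp [Bp, Polynomial.map_prod, Polynomial.map_sum]

lemma map_res (f : R →+* S) (r : ℕ) {q : R[X]} (hq : q.Monic) (g : R[X]) : f (res r q g) = res r (q.map f) (g.map f) := by
  rw [res, res, ← map_modByMonic f hq, coeff_map]

lemma res_congr (r : ℕ) {q g g' : R[X]} (hq : q.Monic) (h : q ∣ g - g') : res r q g = res r q g' := by
  rw [res, res, modByMonic_eq_of_dvd_sub hq h]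

lemma res_add (r : ℕ) {q : R[X]} (g g' : R[X]) : res r q (g + g') = res r q g + res r q g' := by
  rw [res, res, res, add_modByMonic, coeff_add]

lemma res_C_mul (r : ℕ) {q : R[X]} (c : R) (g : R[X]) : res r q (C c * g) = c * res r q g := by
  rw [res, res, ← smul_eq_C_mul, smul_modByMonic, coeff_smul, smul_eq_mul]

lemma natDegree_qq [Nontrivial R] {n : ℕ} (a : Fin n → R) : (qq a).natDegree = n := by
  rw [qq, natDegree_prod_of_monic _ _ fun i _ => monic_X_sub_C _]
  simp

lemma eval_qq_self {n : ℕ} (a : Fin n → R) (m : Fin n) : (qq a).eval (a m) = 0 := by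
  rw [qq, eval_prod]
  exact prod_eq_zero (mem_univ m) (by simp)

lemma eval_Bp (j : ℕ) {n : ℕ} (a : Fin n → R) (x : R) :
    (Bp j a).eval x = ∏ k, ∑ s ∈ range j, x ^ s * a k ^ (j - 1 - s) := by simp [Bp, eval_prod, eval_finsetSum]

/-- residues over a field with distinct nodes -/
lemma res_eq_sum {F : Type*} [Field F] {r : ℕ} (a : Fin (r + 1) → F) (ha : Function.Injective a) (g : F[X]) :
    res r (qq a) g = ∑ m, g.eval (a m) / ∏ k ∈ univ.erase m, (a m - a k) := by
  have hdeg : (g %ₘ qq a).degree < #(univ : Finset (Fin (r + 1))) := by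
    refine (degree_modByMonic_lt g (qq_monic a)).trans_le ?_
    rw [degree_eq_natDegree (qq_monic a).ne_zero, natDegree_qq]
    simp
  have := Lagrange.coeff_eq_sum (s := univ) (v := a) ha.injOn hdeg
  rw [Finset.card_univ, Fintype.card_fin, Nat.add_sub_cancel] at this
  rw [res, this]
  refine sum_congr rfl fun m _ => ?_
  conv_rhs => rw [← modByMonic_add_div g (qq a), eval_add, eval_mul, eval_qq_self, zero_mul, add_zero]

lemma res_comp_field {F : Type*} [Field F] {r j : ℕ} (a : Fin (r + 1) → F) (ha : Function.Injective a)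
    (haj : Function.Injective fun k => a k ^ j) (hj : (j : F) ≠ 0) (ha0 : ∀ k, a k ≠ 0) {g G : F[X]}
    (h : qq a ∣ g * Bp j a - C (j : F) * X ^ (j - 1) * G.comp (X ^ j)) :
    res r (qq a) g = res r (qq fun k => a k ^ j) G := by
  rw [res_eq_sum a ha, res_eq_sum _ haj]
  refine sum_congr rfl fun m _ => ?_
  obtain ⟨t, ht⟩ := h
  have he := congrArg (Polynomial.eval (a m)) ht
  rw [eval_mul, eval_qq_self, zero_mul, eval_sub, eval_mul, eval_mul, eval_mul, eval_C, eval_pow, eval_X, eval_comp,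
    eval_pow, eval_X, sub_eq_zero] at he
  have hB : (Bp j a).eval (a m) * ∏ k ∈ univ.erase m, (a m - a k) =
      ((j : F) * a m ^ (j - 1)) * ∏ k ∈ univ.erase m, (a m ^ j - a k ^ j) := by
    rw [eval_Bp, ← mul_prod_erase _ _ (mem_univ m), mul_assoc, ← prod_mul_distrib]
    congr 1
    · rw [sum_congr rfl fun s hs => ?_, sum_const, card_range, nsmul_eq_mul]
      rw [mem_range] at hs
      rw [← pow_add]; congr 1; omega
    · exact prod_congr rfl fun k _ => geom_sum₂_mul _ _ _
  have hd : ∏ k ∈ univ.erase m, (a m - a k) ≠ 0 :=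
    prod_ne_zero_iff.2 fun k hk => sub_ne_zero.2 fun e => (mem_erase.1 hk).1 (ha e).symm
  have hD : ∏ k ∈ univ.erase m, (a m ^ j - a k ^ j) ≠ 0 :=
    prod_ne_zero_iff.2 fun k hk => sub_ne_zero.2 fun e => (mem_erase.1 hk).1 (haj e).symm
  have hc : (j : F) * a m ^ (j - 1) ≠ 0 := mul_ne_zero hj (pow_ne_zero _ (ha0 m))
  rw [div_eq_div_iff hd hD]
  apply mul_left_cancel₀ hc
  calc (j : F) * a m ^ (j - 1) * (g.eval (a m) * ∏ k ∈ univ.erase m, (a m ^ j - a k ^ j))
      = g.eval (a m) * ((j : F) * a m ^ (j - 1) * ∏ k ∈ univ.erase m, (a m ^ j - a k ^ j)) := by ring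
    _ = g.eval (a m) * ((Bp j a).eval (a m) * ∏ k ∈ univ.erase m, (a m - a k)) := by rw [hB]
    _ = g.eval (a m) * (Bp j a).eval (a m) * ∏ k ∈ univ.erase m, (a m - a k) := by ring
    _ = _ := by rw [he]; ring

lemma isCoprime_Bp {j n : ℕ} (a : Fin n → R) (h : ∀ m, IsUnit ((Bp j a).eval (a m))) : IsCoprime (qq a) (Bp j a) := by
  refine IsCoprime.prod_left fun m _ => ?_
  obtain ⟨u, hu⟩ := h m
  obtain ⟨t, ht⟩ := X_sub_C_dvd_sub_C_eval (a := a m) (p := Bp j a)
  refine ⟨-(C ((u⁻¹ : Rˣ) : R)) * t, C ((u⁻¹ : Rˣ) : R), ?_⟩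
  have hone : C ((u⁻¹ : Rˣ) : R) * C ((Bp j a).eval (a m)) = 1 := by rw [← map_mul, ← hu, Units.inv_mul, map_one]
  linear_combination (C ((u⁻¹ : Rˣ) : R)) * ht + hone

/-- the universal element that must be inverted -/
def univElt (j n : ℕ) : MvPolynomial (Fin n) ℤ :=
  (j : MvPolynomial (Fin n) ℤ) * (∏ k, MvPolynomial.X k) *
    ∏ m, (Bp j (MvPolynomial.X : Fin n → MvPolynomial (Fin n) ℤ)).eval (MvPolynomial.X m)

lemma univElt_ne_zero {j : ℕ} (hj : 1 ≤ j) (n : ℕ) : univElt j n ≠ 0 := by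
  intro h
  have := congrArg (MvPolynomial.eval fun _ : Fin n => (1 : ℤ)) h
  simp [univElt, eval_Bp] at this
  omega

/-- the transformation of residues along `X ↦ X^j` -/
theorem res_comp {r j : ℕ} (hj : 1 ≤ j) (a : Fin (r + 1) → R) (hju : IsUnit (j : R)) (hau : ∀ k, IsUnit (a k))
    (hB : ∀ m, IsUnit ((Bp j a).eval (a m))) (i : ℕ) {g : R[X]}
    (h : qq a ∣ g * Bp j a - C (j : R) * X ^ (j - 1) * (X ^ j) ^ i) :
    res r (qq a) g = res r (qq fun k => a k ^ j) (X ^ i) := by
  let φ0 : MvPolynomial (Fin (r + 1)) ℤ →+* R := MvPolynomial.eval₂Hom (Int.castRingHom R) a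
  let R1 := Localization.Away (univElt j (r + 1))
  have hM : IsUnit (φ0 (univElt j (r + 1))) := by
    rw [univElt, map_mul, map_mul, map_natCast, map_prod, map_prod]
    refine (hju.mul ?_).mul ?_
    · exact Finset.prod_induction _ IsUnit (fun _ _ => IsUnit.mul) isUnit_one fun k _ => by simpa [φ0] using hau k
    · refine Finset.prod_induction _ IsUnit (fun _ _ => IsUnit.mul) isUnit_one fun m _ => ?_
      have := Polynomial.eval₂_at_apply φ0 (MvPolynomial.X m) (p := Bp j (MvPolynomial.X : Fin (r + 1) → MvPolynomial (Fin (r + 1)) ℤ))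
      rw [← this, ← eval_map, map_Bp]
      simpa [φ0] using hB m
  let φ : R1 →+* R := IsLocalization.Away.lift (univElt j (r + 1)) hM
  let a1 : Fin (r + 1) → R1 := fun k => algebraMap (MvPolynomial (Fin (r + 1)) ℤ) R1 (MvPolynomial.X k)
  have hφa : (fun k => φ (a1 k)) = a := funext fun k => by simp [φ, a1, φ0, IsLocalization.Away.lift_eq]
  have hne := univElt_ne_zero hj (r + 1)
  haveI : IsDomain R1 := IsLocalization.isDomain_localization (powers_le_nonZeroDivisors_of_noZeroDivisors hne)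
  have hu1 : IsUnit (algebraMap _ R1 (univElt j (r + 1))) := IsLocalization.Away.algebraMap_isUnit _
  have hB1 : ∀ m, IsUnit ((Bp j a1).eval (a1 m)) := fun m => by
    rw [← map_Bp (algebraMap _ R1), eval_map, Polynomial.eval₂_at_apply]
    have hu2 : IsUnit (algebraMap (MvPolynomial (Fin (r + 1)) ℤ) R1 ((j : MvPolynomial (Fin (r + 1)) ℤ) * (∏ k, MvPolynomial.X k) *
      ∏ m, (Bp j (MvPolynomial.X : Fin (r + 1) → MvPolynomial (Fin (r + 1)) ℤ)).eval (MvPolynomial.X m))) := hu1
    rw [map_mul, map_prod (algebraMap (MvPolynomial (Fin (r + 1)) ℤ) R1) (fun m =>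
      (Bp j (MvPolynomial.X : Fin (r + 1) → MvPolynomial (Fin (r + 1)) ℤ)).eval (MvPolynomial.X m))] at hu2
    have hu3 := isUnit_of_mul_isUnit_right hu2
    exact (IsUnit.prod_univ_iff.1 hu3) m
  obtain ⟨s, t, hst⟩ := isCoprime_Bp a1 hB1
  set g1 := t * (C (j : R1) * X ^ (j - 1) * (X ^ j) ^ i)
  have h1 : qq a1 ∣ g1 * Bp j a1 - C (j : R1) * X ^ (j - 1) * (X ^ j) ^ i :=
    ⟨-s * (C (j : R1) * X ^ (j - 1) * (X ^ j) ^ i), by linear_combination (C (j : R1) * X ^ (j - 1) * (X ^ j) ^ i) * hst⟩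
  have key : res r (qq a1) g1 = res r (qq fun k => a1 k ^ j) (X ^ i) := by
    apply IsFractionRing.injective R1 (FractionRing R1)
    rw [map_res _ r (qq_monic _), map_res _ r (qq_monic _), map_qq, map_qq, Polynomial.map_pow, map_X]
    simp only [map_pow]
    have hinj0 : Function.Injective ((algebraMap R1 (FractionRing R1)).comp (algebraMap (MvPolynomial (Fin (r + 1)) ℤ) R1)) :=
      (IsFractionRing.injective R1 (FractionRing R1)).comp
        (IsLocalization.injective _ (powers_le_nonZeroDivisors_of_noZeroDivisors hne))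
    refine res_comp_field _ (fun x y e => MvPolynomial.X_injective (hinj0 e)) (fun x y e => ?_) ?_ (fun k => ?_) ?_
    · have e' : (MvPolynomial.X x : MvPolynomial (Fin (r + 1)) ℤ) ^ j = MvPolynomial.X y ^ j :=
        hinj0 (by simpa [a1] using e)
      rw [MvPolynomial.X_pow_eq_monomial, MvPolynomial.X_pow_eq_monomial] at e'
      exact Finsupp.single_left_injective (by omega) (MvPolynomial.monomial_left_injective one_ne_zero e')
    · rw [show (j : FractionRing R1) = ((algebraMap R1 (FractionRing R1)).comp (algebraMap (MvPolynomial (Fin (r + 1)) ℤ) R1)) (j : MvPolynomial (Fin (r + 1)) ℤ) by simp]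
      exact (map_ne_zero_iff _ hinj0).2 (Nat.cast_ne_zero.2 (by omega))
    · exact (map_ne_zero_iff _ hinj0).2 (MvPolynomial.X_ne_zero k)
    · have := Polynomial.map_dvd (algebraMap R1 (FractionRing R1)) h1
      rw [map_qq, Polynomial.map_sub, Polynomial.map_mul, map_Bp] at this
      simpa using this
  have h2 := congrArg φ key
  rw [map_res _ r (qq_monic _), map_res _ r (qq_monic _), map_qq, map_qq, Polynomial.map_pow, map_X] at h2
  simp only [map_pow, hφa] at h2
  rw [show (fun k => φ (a1 k) ^ j) = fun k => a k ^ j from funext fun k => by rw [congrFun hφa k]] at h2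
  rw [← h2]
  refine res_congr r (qq_monic a) ?_
  have h3 := Polynomial.map_dvd φ h1
  rw [map_qq, hφa, Polynomial.map_sub, Polynomial.map_mul, map_Bp, hφa] at h3
  simp only [Polynomial.map_mul, Polynomial.map_pow, map_X, map_C] at h3
  rw [map_natCast φ] at h3
  have h4 := dvd_sub h h3
  rw [show g * Bp j a - C (j : R) * X ^ (j - 1) * (X ^ j) ^ i - (g1.map φ * Bp j a - C (j : R) * X ^ (j - 1) * (X ^ j) ^ i) =
    (g - g1.map φ) * Bp j a by ring] at h4
  exact (isCoprime_Bp a hB).dvd_of_dvd_mul_right h4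

/-- residues of powers are the complete symmetric functions -/
lemma res_pow_of_rec [Nontrivial R] {r : ℕ} (a : Fin (r + 1) → R) (c : ℕ → R)
    (hc : qq a = ∑ k ∈ range (r + 1 + 1), C (c k) * X ^ (r + 1 - k)) (hc0 : c 0 = 1) (hcz : ∀ k, r + 1 < k → c k = 0)
    (s : ℕ → R) (hs : ∀ i, ∑ k ∈ range (i + 1), c k * s (i - k) = if i = 0 then 1 else 0) :
    ∀ i, res r (qq a) (X ^ (r + i)) = s i := by
  have hlow : ∀ e, e ≤ r → res r (qq a) (X ^ e) = if e = r then 1 else 0 := fun e he => by
    rw [res, (modByMonic_eq_self_iff (qq_monic a)).2 ?_, coeff_X_pow]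
    · simp [eq_comm]
    · rw [degree_X_pow, degree_eq_natDegree (qq_monic a).ne_zero, natDegree_qq]; exact_mod_cast Nat.lt_succ_of_le he
  intro i
  induction i using Nat.strong_induction_on with
  | _ i ih =>
    have hsi := hs i
    rw [sum_range_succ', hc0, one_mul, Nat.sub_zero] at hsi
    rcases i with - | i
    · rw [add_zero, hlow r le_rfl, if_pos rfl]; simpa using hsi.symm
    have hdvd : res r (qq a) (X ^ i * qq a) = 0 := by
      rw [res, (modByMonic_eq_zero_iff_dvd (qq_monic a)).2 (dvd_mul_left _ _), coeff_zero]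
    rw [hc, mul_sum] at hdvd
    rw [← hc] at hdvd
    have hres : ∀ (s : Finset ℕ) (f : ℕ → R[X]), res r (qq a) (∑ k ∈ s, f k) = ∑ k ∈ s, res r (qq a) (f k) := fun s f =>
      map_sum (AddMonoidHom.mk' (res r (qq a)) (res_add r)) f s
    rw [hres, sum_congr rfl fun k _ => show res r (qq a) (X ^ i * (C (c k) * X ^ (r + 1 - k))) = c k * res r (qq a) (X ^ (i + (r + 1 - k))) by
      rw [mul_left_comm, ← pow_add, res_C_mul]] at hdvd
    rw [if_neg (Nat.succ_ne_zero i)] at hsi
    rw [sum_range_succ', hc0, one_mul, Nat.sub_zero, show i + (r + 1) = r + (i + 1) by omega] at hdvd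
    have hsame : ∑ k ∈ range (r + 1), c (k + 1) * res r (qq a) (X ^ (i + (r + 1 - (k + 1)))) =
        ∑ k ∈ range (i + 1), c (k + 1) * s (i + 1 - (k + 1)) := by
      trans ∑ k ∈ range (min (r + 1) (i + 1)), c (k + 1) * s (i + 1 - (k + 1))
      · rw [← sum_subset (s₁ := range (min (r + 1) (i + 1))) (by intro k; simp only [mem_range]; omega) fun k hk hk' => by
          rw [mem_range] at hk hk'
          rw [hlow _ (by omega), if_neg (by omega), mul_zero]]
        refine sum_congr rfl fun k hk => ?_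
        rw [mem_range] at hk
        rw [show i + (r + 1 - (k + 1)) = r + (i + 1 - (k + 1)) by omega, ih _ (by omega)]
      · refine sum_subset (by intro k; simp only [mem_range]; omega) fun k hk hk' => ?_
        rw [mem_range] at hk hk'
        rw [hcz _ (by omega), zero_mul]
    rw [hsame] at hdvd
    linear_combination hdvd - hsi

end Groth.Agent.KRRLam
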