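import Groth.Agent.LamR.Filt
import Groth.Agent.LamR.Inv
import Groth.Prelude.Def_KRR

/-!
# σ-operations, the elementary extension polynomial and its functional
-/

open Finset

namespace Groth.Agent.KRRLam

open LambdaRing LamR

universe v

variable {K : Type v} [CommRing K] [LambdaOps K]

lemma rescale_mul_sigmaSeries (x : K) :
    PowerSeries.rescale (-1 : K) (lamSeries x) * KRR.sigmaSeries x = 1 := by
  rw [KRR.sigmaSeries, PowerSeries.mul_invOfUnit]
  rw [← PowerSeries.coeff_zero_eq_constantCoeff_apply, PowerSeries.coeff_rescale]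
  simp [LambdaOps.lam_zero]

lemma sum_lam_mul_sigma (x : K) (n : ℕ) :
    ∑ k ∈ range (n + 1), (-1) ^ k * LambdaOps.lam k x * KRR.sigma (n - k) x = if n = 0 then 1 else 0 := by
  have h := congrArg (PowerSeries.coeff n) (rescale_mul_sigmaSeries x)
  rw [PowerSeries.coeff_one, PowerSeries.coeff_mul, Finset.Nat.sum_antidiagonal_eq_sum_range_succ_mk] at h
  simpa [PowerSeries.coeff_rescale, KRR.sigma] using h

lemma sigma_zero (x : K) : KRR.sigma 0 x = 1 := by
  have h := sum_lam_mul_sigma x 0
  simpa [LambdaOps.lam_zero] using h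

lemma aug_sigma {P : PosStructure K} (hK : HasSplitting K P) {e : K} (he : e ∈ P.pos) {r : ℕ}
    (hr : P.aug e = r + 1) (j : ℕ) : P.aug (KRR.sigma j e) = ((r + j).choose j : ℤ) := by
  have hn : (P.aug e).toNat = r + 1 := by omega
  have h1 : PowerSeries.map P.aug (PowerSeries.rescale (-1 : K) (lamSeries e)) = (1 - PowerSeries.X) ^ (r + 1) := by
    ext k
    rw [PowerSeries.coeff_map, PowerSeries.coeff_rescale, map_mul, coeff_lamSeries, LamR.aug_lam hK he, hn, map_pow, map_neg,
      map_one]
    rw [show (1 - PowerSeries.X : PowerSeries ℤ) ^ (r + 1) =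
      PowerSeries.rescale (-1 : ℤ) (((1 + Polynomial.X : Polynomial ℤ) ^ (r + 1) : Polynomial ℤ) : PowerSeries ℤ) by
        push_cast
        rw [map_pow, map_add, map_one, PowerSeries.rescale_neg_one_X, ← sub_eq_add_neg],
      PowerSeries.coeff_rescale, Polynomial.coeff_coe, Polynomial.coeff_one_add_X_pow]
  have h2 : PowerSeries.map P.aug (KRR.sigmaSeries e) = (PowerSeries.invOneSubPow ℤ (r + 1) : PowerSeries ℤ) := by
    have h := congrArg (PowerSeries.map P.aug) (rescale_mul_sigmaSeries e)
    rw [map_mul, map_one, h1, ← PowerSeries.invOneSubPow_inv_eq_one_sub_pow] at h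
    calc PowerSeries.map P.aug (KRR.sigmaSeries e)
        = ((PowerSeries.invOneSubPow ℤ (r + 1)).val * (PowerSeries.invOneSubPow ℤ (r + 1)).inv) *
            PowerSeries.map P.aug (KRR.sigmaSeries e) := by rw [(PowerSeries.invOneSubPow ℤ (r + 1)).val_inv, one_mul]
      _ = _ := by rw [mul_assoc, h, mul_one]
  have := congrArg (PowerSeries.coeff j) h2
  rw [PowerSeries.coeff_map, PowerSeries.invOneSubPow_val_succ_eq_mk_add_choose, PowerSeries.coeff_mk] at this
  rw [KRR.sigma, this, Nat.choose_symm_add]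

/-- the alternating binomial identity -/
lemma sum_choose_mul_choose (r : ℕ) :
    ∑ i ∈ range (r + 1), (-1 : ℤ) ^ (r - i) * (r.choose i) * ((r + i).choose i) = 1 := by
  have key : (1 - PowerSeries.X : PowerSeries ℤ) ^ r * (PowerSeries.invOneSubPow ℤ (r + 1) : PowerSeries ℤ) =
      (PowerSeries.invOneSubPow ℤ 1 : PowerSeries ℤ) := by
    rw [← PowerSeries.invOneSubPow_inv_eq_one_sub_pow, add_comm r 1, PowerSeries.invOneSubPow_add, Units.val_mul,
      mul_comm (PowerSeries.invOneSubPow ℤ 1).val, ← mul_assoc,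
      (PowerSeries.invOneSubPow ℤ r).inv_val, one_mul]
  have h := congrArg (PowerSeries.coeff r) key
  rw [PowerSeries.coeff_mul, Finset.Nat.sum_antidiagonal_eq_sum_range_succ_mk,
    PowerSeries.invOneSubPow_val_succ_eq_mk_add_choose, PowerSeries.invOneSubPow_val_one_eq_invUnitSub_one] at h
  simp only [PowerSeries.coeff_mk, PowerSeries.coeff_invUnitsSub, one_pow, divp_one] at h
  have h' : ∀ k, PowerSeries.coeff k ((1 - PowerSeries.X : PowerSeries ℤ) ^ r) = (-1) ^ k * (r.choose k : ℤ) := fun k => by
    rw [show (1 - PowerSeries.X : PowerSeries ℤ) ^ r =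
      PowerSeries.rescale (-1 : ℤ) (((1 + Polynomial.X : Polynomial ℤ) ^ r : Polynomial ℤ) : PowerSeries ℤ) by
        push_cast
        rw [map_pow, map_add, map_one, PowerSeries.rescale_neg_one_X, ← sub_eq_add_neg],
      PowerSeries.coeff_rescale, Polynomial.coeff_coe, Polynomial.coeff_one_add_X_pow]
  rw [← sum_range_reflect]
  refine (Eq.trans ?_ h).trans (by simp)
  refine sum_congr rfl fun i hi => ?_
  rw [mem_range] at hi
  rw [h', show r + 1 - 1 - i = r - i by omega, Nat.sub_sub_self (by omega), Nat.choose_symm (by omega),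
    Nat.choose_symm_add]

section Ext

variable (P : PosStructure K) (e : K)

/-- the element ℓ -/
noncomputable abbrev ell : AdjoinRoot (KRR.extPoly P e) := AdjoinRoot.root _

lemma relation {m : ℕ} (hm : (P.aug e).toNat = m) :
    ∑ k ∈ range (m + 1), AdjoinRoot.of (KRR.extPoly P e) ((-1) ^ k * LambdaOps.lam k e) * ell P e ^ (m - k) = 0 := by
  subst hm
  have h := AdjoinRoot.eval₂_root (KRR.extPoly P e)
  conv_lhs at h => arg 3; rw [KRR.extPoly]
  rw [Polynomial.eval₂_finsetSum] at h
  simpa [Polynomial.eval₂_mul, Polynomial.eval₂_C, Polynomial.eval₂_pow, Polynomial.eval₂_neg, Polynomial.eval₂_one] using h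

lemma extPoly_monic : (KRR.extPoly P e).Monic := by
  refine Polynomial.monic_of_natDegree_le_of_coeff_eq_one (P.aug e).toNat ?_ ?_
  · rw [KRR.extPoly]
    refine Polynomial.natDegree_sum_le_of_forall_le _ _ fun i _ => ?_
    exact (Polynomial.natDegree_C_mul_X_pow_le _ _).trans (Nat.sub_le _ _)
  · rw [KRR.extPoly, Polynomial.finsetSum_coeff, sum_eq_single 0]
    · simp [LambdaOps.lam_zero]
    · intro i hi hne
      rw [mem_range] at hi
      rw [Polynomial.coeff_C_mul_X_pow, if_neg (by omega)]
    · simp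

lemma extPoly_natDegree [Nontrivial K] : (KRR.extPoly P e).natDegree = (P.aug e).toNat := by
  refine le_antisymm ?_ ?_
  · rw [KRR.extPoly]
    refine Polynomial.natDegree_sum_le_of_forall_le _ _ fun i _ => ?_
    exact (Polynomial.natDegree_C_mul_X_pow_le _ _).trans (Nat.sub_le _ _)
  · refine Polynomial.le_natDegree_of_ne_zero ?_
    rw [KRR.extPoly, Polynomial.finsetSum_coeff, sum_eq_single 0]
    · simp [LambdaOps.lam_zero]
    · intro i hi hne
      rw [mem_range] at hi
      rw [Polynomial.coeff_C_mul_X_pow, if_neg (by omega)]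
    · simp

lemma nontrivial_of_pos (P : PosStructure K) : Nontrivial K :=
  ⟨⟨0, 1, fun h => by simpa using congrArg P.aug h⟩⟩

variable {P e} {r : ℕ} (hr : P.aug e = r + 1)
  (f : AdjoinRoot (KRR.extPoly P e) →ₗ[K] K) (hf : ∀ i : ℕ, i ≤ r → f (ell P e ^ i) = KRR.sigma i e)
include hr hf

lemma functional_pow (he : e ∈ P.pos) (i : ℕ) : f (ell P e ^ i) = KRR.sigma i e := by
  have hm : (P.aug e).toNat = r + 1 := by omega
  induction i using Nat.strong_induction_on with
  | _ i ih =>
    rcases Nat.lt_or_ge i (r + 1) with hi | hi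
    · exact hf i (by omega)
    obtain ⟨j, rfl⟩ : ∃ j, i = r + 1 + j := ⟨i - (r + 1), by omega⟩
    have h := congrArg (fun z => f (z * ell P e ^ j)) (relation P e hm)
    simp only [sum_mul, map_sum, zero_mul, map_zero, mul_assoc, ← pow_add] at h
    have hl : ∀ (c : K) (z : AdjoinRoot (KRR.extPoly P e)), f (AdjoinRoot.of (KRR.extPoly P e) c * z) = c * f z := fun c z => by
      rw [← AdjoinRoot.algebraMap_eq, ← Algebra.smul_def, map_smul, smul_eq_mul]
    simp only [hl] at h
    have hs := sum_lam_mul_sigma e (r + 1 + j)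
    rw [if_neg (by omega)] at hs
    rw [← Finset.sum_subset (s₁ := range (r + 1 + 1)) (by intro k; simp only [mem_range]; omega) (fun k _ hk => by
      rw [mem_range] at hk
      rw [P.lam_eq_zero e he k (by omega), mul_zero, zero_mul])] at hs
    rw [sum_range_succ'] at h hs
    simp only [Nat.sub_zero, pow_zero, one_mul, LambdaOps.lam_zero] at h hs
    have hrest : ∑ k ∈ range (r + 1), (-1) ^ (k + 1) * LambdaOps.lam (k + 1) e * f (ell P e ^ (r + 1 - (k + 1) + j)) =
        ∑ k ∈ range (r + 1), (-1) ^ (k + 1) * LambdaOps.lam (k + 1) e * KRR.sigma (r + 1 + j - (k + 1)) e := by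
      refine sum_congr rfl fun k hk => ?_
      rw [mem_range] at hk
      rw [ih _ (by omega)]
      congr 2; omega
    rw [hrest] at h
    linear_combination h - hs

lemma functional_inv (he : e ∈ P.pos) {linv : AdjoinRoot (KRR.extPoly P e)} (hlinv : linv * ell P e = 1) :
    ∀ n : ℕ, 1 ≤ n → n ≤ r → f (linv ^ n) = 0 := by
  have hm : (P.aug e).toNat = r + 1 := by omega
  intro n
  induction n using Nat.strong_induction_on with
  | _ n ih =>
    intro hn hnr
    have hl : ∀ (c : K) (z : AdjoinRoot (KRR.extPoly P e)), f (AdjoinRoot.of (KRR.extPoly P e) c * z) = c * f z := fun c z => by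
      rw [← AdjoinRoot.algebraMap_eq, ← Algebra.smul_def, map_smul, smul_eq_mul]
    have h := congrArg (fun z => f (z * linv ^ n)) (relation P e hm)
    simp only [sum_mul, map_sum, zero_mul, map_zero, mul_assoc, hl] at h
    -- powers ℓ^a · ℓ^{-n}
    have hpow : ∀ a, ell P e ^ a * linv ^ n = if n ≤ a then ell P e ^ (a - n) else linv ^ (n - a) := fun a => by
      split_ifs with ha
      · conv_lhs => rw [show a = a - n + n by omega, pow_add, mul_assoc, ← mul_pow, mul_comm (ell P e) linv, hlinv, one_pow, mul_one]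
      · conv_lhs => rw [show n = a + (n - a) by omega, pow_add, ← mul_assoc, ← mul_pow, mul_comm (ell P e) linv, hlinv, one_pow, one_mul]
    simp only [hpow] at h
    rw [sum_range_succ, Nat.sub_self, if_neg (by omega), Nat.sub_zero] at h
    have hs := sum_lam_mul_sigma e (r + 1 - n)
    rw [if_neg (by omega)] at hs
    have hlow : ∑ k ∈ range (r + 1), (-1) ^ k * LambdaOps.lam k e * f (if n ≤ r + 1 - k then ell P e ^ (r + 1 - k - n) else linv ^ (n - (r + 1 - k))) =
        ∑ k ∈ range (r + 1 - n + 1), (-1) ^ k * LambdaOps.lam k e * KRR.sigma (r + 1 - n - k) e := by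
      rw [← Finset.sum_subset (s₁ := range (r + 1 - n + 1)) (by intro k; simp only [mem_range]; omega) (fun k hk hk' => by
        rw [mem_range] at hk hk'
        rw [if_neg (by omega), ih _ (by omega) (by omega) (by omega), mul_zero])]
      refine sum_congr rfl fun k hk => ?_
      rw [mem_range] at hk
      rw [if_pos (by omega), functional_pow hr f hf he]
      congr 2; omega
    simp only [← mul_assoc] at h
    rw [hlow, hs, zero_add] at h
    have hu : IsUnit (LambdaOps.lam (r + 1) e) := hm ▸ P.isUnit_lam e he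
    exact ((isUnit_one.neg.pow (r + 1)).mul hu).mul_right_eq_zero.1 h

end Ext

end Groth.Agent.KRRLam
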