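import Groth.Agent.LamR.FreeApps
import Groth.Agent.KRRLam.Sigma

/-!
# A λ-ring with the splitting property is special; polynomial rings over special λ-rings
-/

open Finset MvPolynomial

noncomputable section

namespace Groth.Agent.KRRLam

open LambdaRing LamR

/-- special λ-rings push forward along surjective λ-homomorphisms -/
lemma isSpecial_of_surjective {S T : Type*} [CommRing S] [LambdaOps S] [CommRing T] [LambdaOps T]
    (hS : IsSpecial S) (f : S →+* T) (hsurj : Function.Surjective f)
    (hf : ∀ (n : ℕ) a, f (LambdaOps.lam n a) = LambdaOps.lam n (f a)) : IsSpecial T where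
  lam_one_eq_zero n hn := by rw [← map_one f, ← hf, hS.lam_one_eq_zero n hn, map_zero]
  lam_mul n P hP x y := by
    obtain ⟨x, rfl⟩ := hsurj x
    obtain ⟨y, rfl⟩ := hsurj y
    rw [← map_mul, ← hf, hS.lam_mul n P hP, ringHom_aeval]
    refine aeval_congr_int _ _ (fun i => ?_) _
    rcases i with i | i <;> exact hf _ _
  lam_lam i j Q hQ x := by
    obtain ⟨x, rfl⟩ := hsurj x
    rw [← hf, ← hf, hS.lam_lam i j Q hQ, ringHom_aeval]
    exact aeval_congr_int _ _ (fun k => hf _ _) _

/-- special λ-rings pull back along injective λ-homomorphisms -/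
lemma isSpecial_of_injective {S T : Type*} [CommRing S] [LambdaOps S] [CommRing T] [LambdaOps T]
    (hT : IsSpecial T) (f : S →+* T) (hinj : Function.Injective f)
    (hf : ∀ (n : ℕ) a, f (LambdaOps.lam n a) = LambdaOps.lam n (f a)) : IsSpecial S where
  lam_one_eq_zero n hn := hinj (by rw [hf, map_one, hT.lam_one_eq_zero n hn, map_zero])
  lam_mul n P hP x y := hinj (by
    rw [hf, map_mul, hT.lam_mul n P hP, ringHom_aeval]
    refine aeval_congr_int _ _ (fun i => ?_) _
    rcases i with i | i <;> exact (hf _ _).symm)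
  lam_lam i j Q hQ x := hinj (by
    rw [hf, hf, hT.lam_lam i j Q hQ, ringHom_aeval]
    exact aeval_congr_int _ _ (fun k => (hf _ _).symm) _)

/-- the structure map from ℤ commutes with the λ-operations -/
lemma isLambdaAlg_int {S : Type*} [CommRing S] [LambdaOps S]
    (h1 : ∀ j : ℕ, 2 ≤ j → LambdaOps.lam j (1 : S) = 0) (n : ℕ) (c : ℤ) :
    algebraMap ℤ S ((binomialLambdaOps ℤ).lam n c) = LambdaOps.lam n (algebraMap ℤ S c) := by
  letI : LambdaOps ℤ := binomialLambdaOps ℤ
  have hneg : ∀ n, (algebraMap ℤ S) (LambdaOps.lam n (-1 : ℤ)) = LambdaOps.lam n (-1 : S) := by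
    intro n
    induction n using Nat.strong_induction_on with
    | _ n ih =>
      rcases n with - | n
      · simp [LambdaOps.lam_zero]
      · rw [lam_neg_succ, lam_neg_succ, map_neg, map_sum]
        congr 1
        refine sum_congr rfl fun i _ => ?_
        rw [map_mul, ih _ (by omega)]
        congr 1
        show algebraMap ℤ S (Ring.choose (1 : ℤ) (i + 1)) = LambdaOps.lam (i + 1) (1 : S)
        rw [← Nat.cast_one, Ring.choose_natCast, map_natCast]
        exact (Nat.cast_one (R := S) ▸ lam_natCast h1 1 (i + 1)).symm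
  show algebraMap ℤ S (LambdaOps.lam n c) = _
  induction c using Int.induction_on generalizing n with
  | zero =>
    rcases n with - | n
    · simp [LambdaOps.lam_zero]
    · rw [lam_zero_right (Nat.succ_ne_zero n), map_zero, lam_zero_right (Nat.succ_ne_zero n)]
  | succ c _ =>
    show algebraMap ℤ S (Ring.choose ((c : ℤ) + 1) n) = _
    rw [← Nat.cast_succ, Ring.choose_natCast, map_natCast, map_natCast]
    exact (lam_natCast h1 _ n).symm
  | pred c ih =>
    rw [sub_eq_add_neg, LambdaOps.lam_add, map_sum, map_add, LambdaOps.lam_add]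
    refine sum_congr rfl fun i _ => ?_
    rw [map_mul, ih, hneg, map_neg, map_neg, map_one]

section Mono

/-- rational monomial ring -/
abbrev MQ (ι : Type*) := MvPolynomial ι ℚ

/-- Adams operations on monomials -/
def psiM {ι : Type*} (k : ℕ) : MQ ι →+* MQ ι := (aeval fun v => (X v : MQ ι) ^ k).toRingHom

lemma psiM_one {ι : Type*} : (psiM 1 : MQ ι →+* MQ ι) = RingHom.id _ := by
  refine MvPolynomial.ringHom_ext (fun r => ?_) (fun v => ?_) <;> simp [psiM]

lemma psiM_comp {ι : Type*} (k l : ℕ) (a : MQ ι) : psiM k (psiM l a) = psiM (k * l) a := by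
  rw [← RingHom.comp_apply]
  congr 1
  refine MvPolynomial.ringHom_ext (fun r => ?_) (fun v => ?_) <;> simp [psiM, ← pow_mul]

/-- λ-structure -/
@[reducible] def lamMQ {ι : Type*} : LambdaOps (MQ ι) :=
  opsOfAdams (fun k => (psiM k).toAddMonoidHom) (by ext a; simp [psiM_one])

attribute [local instance] lamMQ

lemma adamsOp_MQ {ι : Type*} {k : ℕ} (hk : 1 ≤ k) (a : MQ ι) : adamsOp k a = psiM k a :=
  adamsOp_opsOfAdams _ _ k hk a

lemma isSpecial_MQ {ι : Type*} : IsSpecial (MQ ι) := by
  refine isSpecial_of_adamsOp (fun n a b h => (isUnit_succ n).mul_right_cancel h) (fun k hk => ?_)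
    (fun k hk x y => ?_) fun k k' hk hk' x => ?_
  · rw [adamsOp_MQ hk, map_one]
  · rw [adamsOp_MQ hk, adamsOp_MQ hk, adamsOp_MQ hk, map_mul]
  · rw [adamsOp_MQ hk', adamsOp_MQ hk, adamsOp_MQ (Nat.mul_pos hk hk'), psiM_comp]

lemma lam_monomial_thin {ι : Type*} {a : MQ ι} (ha : ∀ k, psiM k a = a ^ k) (j : ℕ) (hj : 2 ≤ j) :
    LambdaOps.lam j a = 0 := by
  have h : lamSeries a = genSer ({a} : Multiset (MQ ι)) := by
    refine eq_of_psum (fun n a b h => (isUnit_succ n).mul_right_cancel h) (constantCoeff_lamSeries _)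
      (by rw [genSer_eq_cser, constantCoeff_cser]) fun k => ?_
    rw [← adamsOp_eq_psum, adamsOp_MQ (by omega), ha, psum_genSer]; simp
  rw [← coeff_lamSeries, h, coeff_genSer, esymm_eq_zero_of_card_lt (by simp; omega)]

variable (ι : Type*)

/-- inclusion -/
def jM : MvPolynomial ι ℤ →+* MQ ι := MvPolynomial.map (Int.castRingHom ℚ)

lemma jM_injective : Function.Injective (jM ι) := MvPolynomial.map_injective _ Int.cast_injective

lemma exists_lamM (n : ℕ) (v : MvPolynomial ι ℤ) : ∃ w, jM ι w = LambdaOps.lam n (jM ι v) := by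
  suffices jM ι v ∈ goodSub isSpecial_MQ (jM ι).range from this.2 n
  induction v using MvPolynomial.induction_on with
  | C c => rw [show jM ι (C c) = ((c : ℤ) : MQ ι) by simp [jM]]; exact intCast_mem _ c
  | add a b ha hb => rw [map_add]; exact add_mem ha hb
  | mul_X a p ha =>
    rw [map_mul]
    refine mul_mem ha ⟨⟨_, rfl⟩, fun n => ?_⟩
    match n with
    | 0 => rw [LambdaOps.lam_zero]; exact one_mem _
    | 1 => rw [LambdaOps.lam_one]; exact ⟨_, rfl⟩
    | n + 2 =>
      rw [lam_monomial_thin (fun k => by simp [jM, psiM]) _ (by omega)]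
      exact zero_mem _

/-- λ-structure on the integral monomial ring -/
@[reducible] def lamM : LambdaOps (MvPolynomial ι ℤ) where
  lam n v := (exists_lamM ι n v).choose
  lam_zero v := jM_injective ι (by rw [(exists_lamM ι 0 v).choose_spec, LambdaOps.lam_zero, map_one])
  lam_one v := jM_injective ι (by rw [(exists_lamM ι 1 v).choose_spec, LambdaOps.lam_one])
  lam_add k x y := jM_injective ι (by
    rw [(exists_lamM ι k _).choose_spec, map_add, LambdaOps.lam_add, map_sum]
    exact sum_congr rfl fun i _ => by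
      rw [map_mul, (exists_lamM ι i x).choose_spec, (exists_lamM ι (k - i) y).choose_spec])

attribute [local instance] lamM

lemma jM_lam (n : ℕ) (v : MvPolynomial ι ℤ) : jM ι (LambdaOps.lam n v) = LambdaOps.lam n (jM ι v) :=
  (exists_lamM ι n v).choose_spec

lemma isSpecial_M : IsSpecial (MvPolynomial ι ℤ) := isSpecial_of_injective isSpecial_MQ (jM ι) (jM_injective ι) (jM_lam ι)

lemma adamsOp_M_monomial (d : ι →₀ ℕ) (j : ℕ) (hj : 2 ≤ j) : LambdaOps.lam j (monomial d (1 : ℤ)) = 0 := by
  apply jM_injective ι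
  rw [jM_lam, map_zero, jM, map_monomial, map_one]
  refine lam_monomial_thin (fun k => ?_) j hj
  rw [monomial_pow, one_pow, psiM]
  show aeval _ _ = _
  rw [aeval_monomial, map_one, one_mul, monomial_eq, map_one, one_mul, Finsupp.prod_of_support_subset _ Finsupp.support_smul _ (fun i _ => pow_zero _)]
  exact prod_congr rfl fun i _ => by simp only [← pow_mul, Finsupp.smul_apply, smul_eq_mul]

variable {ι}

/-- evaluation at elements whose monomials are thin is a λ-homomorphism -/
lemma aeval_lam {S : Type*} [CommRing S] [LambdaOps S] (a : ι → S)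
    (ha : ∀ d : ι →₀ ℕ, ∀ j : ℕ, 2 ≤ j → LambdaOps.lam j (aeval a (monomial d (1 : ℤ))) = 0)
    (n : ℕ) (v : MvPolynomial ι ℤ) : aeval a (LambdaOps.lam n v) = LambdaOps.lam n (aeval a v) := by
  let f : MvPolynomial ι ℤ →+* S := (aeval a : MvPolynomial ι ℤ →ₐ[ℤ] S).toRingHom
  let G : AddSubgroup (MvPolynomial ι ℤ) :=
    { carrier := {v | ∀ n, f (LambdaOps.lam n v) = LambdaOps.lam n (f v)}
      zero_mem' := fun n => by
        rcases n with - | n
        · simp [LambdaOps.lam_zero]
        · rw [lam_zero_right (Nat.succ_ne_zero n), map_zero, lam_zero_right (Nat.succ_ne_zero n)]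
      add_mem' := fun {x y} hx hy n => by
        rw [LambdaOps.lam_add, map_sum, map_add, LambdaOps.lam_add]
        exact sum_congr rfl fun i _ => by rw [map_mul, hx, hy]
      neg_mem' := fun {x} hx n => by
        induction n using Nat.strong_induction_on with
        | _ n ih =>
          rcases n with - | n
          · simp [LambdaOps.lam_zero]
          · rw [lam_neg_succ, map_neg, map_sum, map_neg, lam_neg_succ]
            congr 1
            refine sum_congr rfl fun i _ => ?_
            rw [map_mul, hx, ih _ (by omega), map_neg] }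
  suffices v ∈ G from this n
  induction v using MvPolynomial.induction_on' with
  | monomial d c =>
    rw [show monomial d c = c • monomial d (1 : ℤ) by rw [smul_monomial, smul_eq_mul, mul_one]]
    refine zsmul_mem (show monomial d (1 : ℤ) ∈ G from fun m => ?_) c
    match m with
    | 0 => simp [LambdaOps.lam_zero]
    | 1 => simp [LambdaOps.lam_one]
    | m + 2 => rw [adamsOp_M_monomial ι d _ (by omega), map_zero]; exact (ha d _ (by omega)).symm
  | add p q hp hq => exact add_mem hp hq

universe u

variable {K : Type u} [CommRing K] [LambdaOps K] {P : PosStructure K}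

lemma isLine_aeval {a : ι → K} (ha : ∀ i, P.IsLine (a i)) (d : ι →₀ ℕ) : P.IsLine (aeval a (monomial d (1 : ℤ))) := by
  rw [aeval_monomial, map_one, one_mul]
  refine Finset.prod_induction (fun i => a i ^ d i) P.IsLine (fun x y => isLine_mul P) (isLine_one P) fun i _ => ?_
  exact isLine_pow P (ha i) _

lemma aeval_lines_lam {a : ι → K} (ha : ∀ i, P.IsLine (a i)) (n : ℕ) (v : MvPolynomial ι ℤ) :
    aeval a (LambdaOps.lam n v) = LambdaOps.lam n (aeval a v) :=
  aeval_lam a (fun d j hj => lam_line P (isLine_aeval ha d) j hj) n v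

end Mono

universe u

variable {K : Type u} [CommRing K] [LambdaOps K] {P : PosStructure K}

attribute [local instance] lamM

lemma exists_lift_lines {L : Type u} [CommRing L] [LambdaOps L] {Q : PosStructure L} (s : Multiset L)
    (hs : ∀ v ∈ s, Q.IsLine v) :
    s.sum ∈ (aeval fun v : {v : L // Q.IsLine v} => (v : L) : MvPolynomial {v : L // Q.IsLine v} ℤ →ₐ[ℤ] L).range := by
  refine Subalgebra.multiset_sum_mem _ fun v hv => ⟨X ⟨v, hs v hv⟩, ?_⟩
  show aeval _ (X _) = v
  rw [aeval_X]

/-- the splitting property implies specialness -/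
theorem isSpecial_of_hasSplitting (hK : HasSplitting K P) : IsSpecial K := by
  have key : ∀ l : List K, ∃ (ι : Type u) (L : PosLambdaRing.{u}) (g : K →+* L.carrier) (a : ι → L.carrier),
      IsExtension P L.posStr g ∧ (∀ i, L.posStr.IsLine (a i)) ∧
      ∀ x ∈ l, g x ∈ (aeval a : MvPolynomial ι ℤ →ₐ[ℤ] L.carrier).range := by
    intro l
    have : ∀ x : K, ∃ e f, e ∈ P.pos ∧ f ∈ P.pos ∧ x = e - f := P.exists_sub
    choose pe pf hpe hpf hpx using this
    obtain ⟨L, g, hg, hs⟩ := exists_splitting hK (l.map pe ++ l.map pf) (by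
      intro e he
      rcases List.mem_append.1 he with h | h <;> obtain ⟨x, _, rfl⟩ := List.mem_map.1 h
      exacts [hpe x, hpf x])
    refine ⟨{v : L.carrier // L.posStr.IsLine v}, L, g, Subtype.val, hg, fun i => i.2, fun x hx => ?_⟩
    obtain ⟨s, hs1, hs2⟩ := hs (pe x) (List.mem_append_left _ (List.mem_map.2 ⟨x, hx, rfl⟩))
    obtain ⟨t, ht1, ht2⟩ := hs (pf x) (List.mem_append_right _ (List.mem_map.2 ⟨x, hx, rfl⟩))
    rw [hpx x, map_sub, ← hs2, ← ht2]
    exact sub_mem (exists_lift_lines s hs1) (exists_lift_lines t ht1)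
  refine ⟨lam_one_pos P, fun n Q hQ x y => ?_, fun i j Q hQ x => ?_⟩
  · obtain ⟨ι, L, g, a, hg, ha, hmem⟩ := key [x, y]
    obtain ⟨mx, hmx⟩ := hmem x (by simp)
    obtain ⟨my, hmy⟩ := hmem y (by simp)
    replace hmx : aeval a mx = g x := hmx
    replace hmy : aeval a my = g y := hmy
    apply hg.injective
    rw [hg.isLambdaHom, map_mul, ← hmx, ← hmy, ← map_mul, ← aeval_lines_lam ha, (isSpecial_M ι).lam_mul n Q hQ,
      ringHom_aeval]
    show (aeval a : MvPolynomial ι ℤ →ₐ[ℤ] L.carrier).toRingHom _ = _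
    rw [ringHom_aeval]
    refine aeval_congr_int _ _ (fun k => ?_) _
    rcases k with k | k
    · exact (aeval_lines_lam ha _ _).trans (by rw [hmx]; exact (hg.isLambdaHom _ _).symm)
    · exact (aeval_lines_lam ha _ _).trans (by rw [hmy]; exact (hg.isLambdaHom _ _).symm)
  · obtain ⟨ι, L, g, a, hg, ha, hmem⟩ := key [x]
    obtain ⟨mx, hmx⟩ := hmem x (by simp)
    replace hmx : aeval a mx = g x := hmx
    apply hg.injective
    rw [hg.isLambdaHom, hg.isLambdaHom, ← hmx, ← aeval_lines_lam ha, ← aeval_lines_lam ha,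
      (isSpecial_M ι).lam_lam i j Q hQ, ringHom_aeval]
    show (aeval a : MvPolynomial ι ℤ →ₐ[ℤ] L.carrier).toRingHom _ = _
    rw [ringHom_aeval]
    exact aeval_congr_int _ _ (fun k => (aeval_lines_lam ha _ _).trans (by rw [hmx]; exact (hg.isLambdaHom _ _).symm)) _

end Groth.Agent.KRRLam
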